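import Groth.Agent.EtBCLib.EdgeBC
import Groth.Agent.EtaleSite.PullPentagon
import Groth.Prelude.Def_EtBC2

/-!
# Pasting of base change maps of higher direct images
-/

universe u

open CategoryTheory CategoryTheory.Limits AlgebraicGeometry

set_option backward.isDefEq.respectTransparency false
set_option backward.isDefEq.respectTransparency.types false
set_option autoImplicit false

namespace Groth.Agent.EtBCLib

open Groth.Agent.EtaleSite

theorem pushCongr_refl {A B : Scheme.{u}} (a : A ⟶ B) (x : EtCoh.Ab A) :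
    (EtCoh.pushCongr (rfl : a = a)).hom.app x = 𝟙 _ := by
  have hc : ∀ V : B.Etale, (MorphismProperty.Over.pullbackCongr (P := EtCoh.etaleMP) (Q := ⊤)
      (rfl : a = a)).inv.app V = 𝟙 _ := fun V => by
    ext
    simp [MorphismProperty.Over.pullbackCongr]
    first | exact pullback.congrHom_inv _ _ | (apply pullback.hom_ext <;> exact (Category.id_comp _).symm)
  apply Sheaf.hom_ext
  apply NatTrans.ext
  funext V
  change x.obj.map ((MorphismProperty.Over.pullbackCongr (P := EtCoh.etaleMP) (Q := ⊤)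
      (rfl : a = a)).inv.app V.unop).op = 𝟙 _
  rw [hc]
  exact x.obj.map_id _

theorem pushCongr_left {A B C : Scheme.{u}} (a : A ⟶ B) {t t' : B ⟶ C} (h : t = t') (x : EtCoh.Ab A) :
    (EtCoh.pushCongr h).hom.app ((EtCoh.push a).obj x) ≫ (EtCoh.pushComp t' a).hom.app x =
      (EtCoh.pushComp t a).hom.app x ≫ (EtCoh.pushCongr (congrArg (a ≫ ·) h)).hom.app x := by
  subst h
  rw [pushCongr_refl, pushCongr_refl]
  simp

theorem pushCongr_right {A B C : Scheme.{u}} {a a' : A ⟶ B} (h : a = a') (t : B ⟶ C) (x : EtCoh.Ab A) :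
    (EtCoh.push t).map ((EtCoh.pushCongr h).hom.app x) ≫ (EtCoh.pushComp t a').hom.app x =
      (EtCoh.pushComp t a).hom.app x ≫ (EtCoh.pushCongr (congrArg (· ≫ t) h)).hom.app x := by
  subst h
  rw [pushCongr_refl, pushCongr_refl]
  simp

theorem pushCongr_trans {A B : Scheme.{u}} {a b c : A ⟶ B} (h : a = b) (h' : b = c) (x : EtCoh.Ab A) :
    (EtCoh.pushCongr h).hom.app x ≫ (EtCoh.pushCongr h').hom.app x =
      (EtCoh.pushCongr (h.trans h')).hom.app x := by
  subst h
  rw [pushCongr_refl]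
  simp

/-- The comparison of `f_* g'_*` and `g_* f'_*` for a commutative square. -/
noncomputable abbrev squareIso {X S X' S' : Scheme.{u}} (f : X ⟶ S) (g : S' ⟶ S) (f' : X' ⟶ S')
    (g' : X' ⟶ X) (w : g' ≫ f = f' ≫ g) :
    EtCoh.push g' ⋙ EtCoh.push f ≅ EtCoh.push f' ⋙ EtCoh.push g :=
  EtCoh.pushComp f g' ≪≫ EtCoh.pushCongr w ≪≫ (EtCoh.pushComp g f').symm

variable {X S Y T W Z : Scheme.{u}} (f : X ⟶ S) (g : T ⟶ S) (h : Y ⟶ X) (e : Y ⟶ T)
  (w : e ≫ g = h ≫ f) (i : W ⟶ X) (j : Z ⟶ W) (k : Z ⟶ Y) (w' : k ≫ h = j ≫ i)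
  (w'' : (k ≫ e) ≫ g = j ≫ (i ≫ f))

theorem squareIso_paste (x : EtCoh.Ab Z) :
    (EtCoh.push g).map ((EtCoh.pushComp e k).hom.app x) ≫ (squareIso g (i ≫ f) j (k ≫ e) w'').hom.app x =
      (squareIso g f h e w).hom.app ((EtCoh.push k).obj x) ≫
        (EtCoh.push f).map ((squareIso h i j k w').hom.app x) ≫
        (EtCoh.pushComp f i).hom.app ((EtCoh.push j).obj x) := by
  refine (cancel_mono ((EtCoh.pushComp (i ≫ f) j).hom.app x)).1 ?_
  simp only [squareIso, Iso.trans_hom, Iso.symm_hom, NatTrans.comp_app, Category.assoc, Functor.map_comp,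
    Iso.inv_hom_id_app, Category.comp_id]
  rw [← HpullFunctor.pushComp_assoc j i f x]
  erw [← (EtCoh.push f).map_comp_assoc ((EtCoh.pushComp i j).inv.app x), Iso.inv_hom_id_app,
    (EtCoh.push f).map_id, Category.id_comp]
  erw [pushCongr_right w' f x]
  erw [reassoc_of% (HpullFunctor.pushComp_assoc k h f x)]
  erw [Iso.inv_hom_id_app_assoc]
  erw [reassoc_of% (pushCongr_left k w x)]
  erw [reassoc_of% (HpullFunctor.pushComp_assoc k e g x)]
  refine congrArg (_ ≫ ·) (congrArg (_ ≫ ·) ?_)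
  exact (pushCongr_trans _ _ x).symm

variable [PreservesFiniteLimits (EtCoh.pull e)] [PreservesFiniteLimits (EtCoh.pull k)]
  [PreservesFiniteLimits (EtCoh.pull (k ≫ e))] (F : EtCoh.Ab T) (q : ℕ)

theorem isIso_bcQ_paste (h1 : IsIso (EtBC.bcQ g f h e w q F))
    (h2 : IsIso (EtBC.bcQ h i j k w' q ((EtCoh.pull e).obj F))) :
    IsIso (EtBC.bcQ g (i ≫ f) j (k ≫ e) w'' q F) := by
  let u := (EtCoh.pullPushAdj e).unit.app F
  let u' := (EtCoh.pullPushAdj k).unit.app ((EtCoh.pull e).obj F)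
  let u'' := (EtCoh.pullPushAdj (k ≫ e)).unit.app F
  have a1 : Univ (EtCoh.push f) (adjMap (squareIso g f h e w) u q) :=
    (isIso_transpose_iff (EtCoh.pullPushAdj f) _).1 h1
  have a2 : Univ (EtCoh.push i) (adjMap (squareIso h i j k w') u' q) :=
    (isIso_transpose_iff (EtCoh.pullPushAdj i) _).1 h2
  have hu : u ≫ (EtCoh.push e).map u' ≫ (EtCoh.pushComp e k).hom.app _ =
      u'' ≫ (EtCoh.push (k ≫ e)).map ((EtCore.pullComp k e).hom.app F) := by
    have hp := HpullFunctor.pullComp_homEquiv k e F (F := (EtCoh.pull k).obj ((EtCoh.pull e).obj F)) (𝟙 _)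
    simp only [Adjunction.homEquiv_unit] at hp
    erw [Category.comp_id] at hp
    rw [(EtCoh.push k).map_id] at hp
    erw [Category.comp_id] at hp
    simp only [Category.assoc] at hp
    exact hp.symm
  have a3 : Univ (EtCoh.push (i ≫ f))
      (adjMap (squareIso g (i ≫ f) j (k ≫ e) w'')
        (u'' ≫ (EtCoh.push (k ≫ e)).map ((EtCore.pullComp k e).hom.app F)) q) := by
    rw [← hu, adjMap_paste (squareIso g f h e w) (squareIso h i j k w') _ (EtCoh.pushComp e k)
      (EtCoh.pushComp f i) (fun x => squareIso_paste f g h e w i j k w' w'' x) u u' q]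
    exact Univ.paste (EtCoh.pushComp f i) a1 a2
  rw [adjMap_comp_map] at a3
  exact (isIso_transpose_iff (EtCoh.pullPushAdj (i ≫ f)) _).2
    (Univ.of_comp_map _ a3)

end Groth.Agent.EtBCLib
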