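import Groth.Agent.EtBCLib.Local
import Groth.Agent.S6694
import Groth.Agent.DTrunc.DerivedPushAdj
import Groth.Agent.KFlat.MapHomology

/-!
# Derived base change maps are local for the étale topology
-/

universe u

open CategoryTheory CategoryTheory.Limits AlgebraicGeometry Opposite

attribute [local instance] HasDerivedCategory.standard

set_option backward.isDefEq.respectTransparency false
set_option backward.isDefEq.respectTransparency.types false
set_option autoImplicit false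

namespace Groth.Agent.EtBCLib.DLocal

open Groth.Agent Groth.Agent.EtaleSite

variable {A B : Scheme.{u}} (f : A ⟶ B)

theorem pull_preservesFiniteColimits : PreservesFiniteColimits (EtCoh.pull f) :=
  have : PreservesColimitsOfSize.{0, 0} (EtCoh.pull f) := (EtCoh.pullPushAdj f).leftAdjoint_preservesColimits
  PreservesColimitsOfSize.preservesFiniteColimits _

theorem hasRpushEt : DCoh.HasRpushEt A f :=
  (DTrunc.RightDerived.hasEnough (DCoh.pushEtKh A f)).hasRightDerivedFunctor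
    (W := HomotopyCategory.quasiIso (EtCoh.Ab A) (ComplexShape.up ℤ))

local notation "Qh'" => DerivedCategory.Qh

theorem exists_adj [PreservesFiniteLimits (EtCoh.pull f)] [DCoh.HasRpushEt A f] :
    ∃ adjD : EtBC.pullD f ⊣ DCoh.RpushEt A f, ∀ P : HomotopyCategory (EtCoh.Ab B) (ComplexShape.up ℤ),
      adjD.unit.app (DerivedCategory.Qh.obj P) ≫
        (DCoh.RpushEt A f).map ((EtCoh.pull f).mapDerivedCategoryFactorsh.hom.app P) =
      DerivedCategory.Qh.map ((DRing.DerivedAdj.mapHomotopyCategoryAdj (EtCoh.pullPushAdj f)).unit.app P) ≫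
        (S6694.unitD f).app (((EtCoh.pull f).mapHomotopyCategory (ComplexShape.up ℤ)).obj P) := by
  haveI := pull_preservesFiniteColimits f
  let W₁ := HomotopyCategory.quasiIso (EtCoh.Ab B) (ComplexShape.up ℤ)
  let W₂ := HomotopyCategory.quasiIso (EtCoh.Ab A) (ComplexShape.up ℤ)
  let β := S6694.unitD f
  let adjK := DRing.DerivedAdj.mapHomotopyCategoryAdj (EtCoh.pullPushAdj f)
  let G' := EtBC.pullD f
  let eα : DerivedCategory.Qh ⋙ G' ≅
      (EtCoh.pull f).mapHomotopyCategory (ComplexShape.up ℤ) ⋙ DerivedCategory.Qh :=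
    (EtCoh.pull f).mapDerivedCategoryFactorsh
  have hG : G'.IsLeftDerivedFunctor eα.hom W₁ :=
    Functor.isLeftDerivedFunctor_of_inverts _ _ eα
  have hGF : (G' ⋙ DCoh.RpushEt A f).IsLeftDerivedFunctor
      ((Functor.associator _ _ _).inv ≫ Functor.whiskerRight eα.hom (DCoh.RpushEt A f)) W₁ :=
    Functor.isLeftDerivedFunctor_of_inverts _ _
      ((Functor.associator _ _ _).symm ≪≫ Functor.isoWhiskerRight eα (DCoh.RpushEt A f))
  have hen : DTrunc.RightDerived.HasEnough DerivedCategory.Qh (DCoh.pushEtKh A f) :=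
    DTrunc.RightDerived.hasEnough _
  have hFG : (DCoh.RpushEt A f ⋙ G').IsRightDerivedFunctor
      (Functor.whiskerRight β G' ≫ (Functor.associator _ _ _).hom) W₂ := by
    refine DTrunc.RightDerived.isRightDerivedFunctor_of_isIso W₂ _ _ fun X => ?_
    obtain ⟨P, s, hP, hs⟩ := hen X
    refine ⟨P, s, hP.comp G', hs, ?_⟩
    have := hen.isIso_app (W := W₂) (DCoh.RpushEt A f) β hP
    change IsIso (G'.map (β.app P) ≫ 𝟙 _)
    infer_instance
  exact ⟨Adjunction.derived adjK W₁ W₂ eα.hom β, fun P => Adjunction.derivedη_fac_app adjK W₁ eα.hom β P⟩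

theorem isIso_of_pull {X : Scheme.{u}} {K L : DCoh.DEt X} (m : K ⟶ L) {ι : Type u} (U : ι → X.Etale)
    (hU : EtCoh.Covers U) [∀ i, PreservesFiniteLimits (EtCoh.pull (U i).hom)]
    (H : ∀ i, IsIso ((EtBC.pullD (U i).hom).map m)) : IsIso m := by
  rw [DerivedCategory.isIso_iff]
  intro n
  refine isIso_of_pull_cover _ U hU fun i => ?_
  haveI := H i
  haveI := pull_preservesFiniteColimits (U i).hom
  exact (NatIso.isIso_map_iff (KFlat.MapHomology.iso (EtCoh.pull (U i).hom) n) m).1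
    (inferInstanceAs (IsIso ((DerivedCategory.homologyFunctor _ n).map ((EtBC.pullD (U i).hom).map m))))

section Etale

variable {S T V T' : Scheme.{u}} (g : T ⟶ S) (v : V ⟶ S) [Etale v] (gi : T' ⟶ V) (t : T' ⟶ T) [Etale t]
  (h : IsPullback t gi g v) [PreservesFiniteLimits (EtCoh.pull t)] [PreservesFiniteLimits (EtCoh.pull v)]
  [DCoh.HasRpushEt T g] [DCoh.HasRpushEt T' gi] [DCoh.HasRpushEt V v]

theorem univ_bcAdj (C : CochainComplex (EtCoh.Ab T) ℤ) [C.IsKInjective] :
    Univ (DCoh.RpushEt V v) ((EtBC.bcAdj g v gi t h.w).app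
      (DerivedCategory.Qh.obj ((HomotopyCategory.quotient _ _).obj C))) := by
  obtain ⟨adjD, hD⟩ := exists_adj v
  let cx := ComplexShape.up ℤ
  let C' := ((EtCoh.pull t).mapHomologicalComplex cx).obj C
  let A' := ((EtCoh.push g).mapHomologicalComplex cx).obj C
  let b : ((EtCoh.pull v).mapHomologicalComplex cx).obj A' ⟶
      ((EtCoh.push gi).mapHomologicalComplex cx).obj C' :=
    { f := fun n => ((EtCoh.pullPushAdj v).homEquiv _ _).symm
        (((NatTrans.mapHomologicalComplex (EtBC.pushToPushPull g v gi t h.w) cx).app C).f n)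
      comm' := fun i j _ => by
        erw [← (EtCoh.pullPushAdj v).homEquiv_naturality_left_symm,
          ← (EtCoh.pullPushAdj v).homEquiv_naturality_right_symm]
        exact congrArg _ (((NatTrans.mapHomologicalComplex (EtBC.pushToPushPull g v gi t h.w) cx).app C).comm i j) }
  haveI : ∀ n, IsIso (b.f n) := fun n => by
    have := (isIso_transpose_iff (EtCoh.pullPushAdj v) _).2 (univ_deg g v gi t h (C.X n))
    have e : ((NatTrans.mapHomologicalComplex (EtBC.pushToPushPull g v gi t h.w) cx).app C).f n =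
        (EtCoh.push g).map ((EtCoh.pullPushAdj t).unit.app (C.X n)) ≫
          (squareIso g v gi t h.w).hom.app ((EtCoh.pull t).obj (C.X n)) := by
      change (EtBC.pushToPushPull g v gi t h.w).app (C.X n) = _
      dsimp only [EtBC.pushToPushPull, squareIso, Iso.trans_hom, Iso.symm_hom, NatTrans.comp_app,
        Functor.whiskerRight_app, Functor.whiskerLeft_app, Functor.leftUnitor_inv_app,
        Functor.associator_hom_app]
      simp only [Category.id_comp, Category.assoc]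
      try rfl
    exact (congrArg (fun x => IsIso (((EtCoh.pullPushAdj v).homEquiv _ _).symm x)) e).mpr this
  haveI : IsIso b := HomologicalComplex.Hom.isIso_of_components b
  let qV := HomotopyCategory.quotient (EtCoh.Ab V) cx
  let qT := HomotopyCategory.quotient (EtCoh.Ab T) cx
  let qT' := HomotopyCategory.quotient (EtCoh.Ab T') cx
  haveI hg := EtSixLib.isIso_app_of_kInjective (DCoh.RpushEt T g) (S6694.unitD g) C
  haveI : PreservesFiniteColimits (EtShriek.extZero t) :=
    have : PreservesColimitsOfSize.{0, 0} (EtShriek.extZero t) :=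
      (EtShriek.extZeroAdj t).leftAdjoint_preservesColimits
    PreservesColimitsOfSize.preservesFiniteColimits _
  haveI : (EtShriek.extZero t).Additive := (EtSupp.extPullAdj t).left_adjoint_additive
  haveI : CochainComplex.IsKInjective C' :=
    EtSixLib.isKInjective_map (EtSupp.extPullAdj t) C
  haveI hgi : IsIso ((S6694.unitD gi).app (qT'.obj C')) :=
    EtSixLib.isIso_app_of_kInjective (DCoh.RpushEt T' gi) (S6694.unitD gi) C'
  let X : (EtBC.pullD v).obj (DerivedCategory.Qh.obj ((HomotopyCategory.quotient _ _).obj A')) ⟶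
      (DCoh.RpushEt T' gi).obj ((EtBC.pullD t).obj (DerivedCategory.Qh.obj (qT.obj C))) :=
    (EtCoh.pull v).mapDerivedCategoryFactorsh.hom.app _ ≫ DerivedCategory.Qh.map (qV.map b) ≫
      (S6694.unitD gi).app (qT'.obj C') ≫
      (DCoh.RpushEt T' gi).map ((EtCoh.pull t).mapDerivedCategoryFactorsh.inv.app (qT.obj C))
  haveI : IsIso X := by
    refine IsIso.comp_isIso' inferInstance (IsIso.comp_isIso' inferInstance (IsIso.comp_isIso' hgi inferInstance))
  have e1 : (adjD.homEquiv _ _) X = (S6694.unitD g).app (qT.obj C) ≫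
      (EtBC.bcAdj g v gi t h.w).app (DerivedCategory.Qh.obj (qT.obj C)) := by
    refine Eq.trans ?_ (S6694.bcAdj_fac g v gi t h.w C).symm
    rw [adjD.homEquiv_unit, Functor.map_comp]
    erw [reassoc_of% (hD ((HomotopyCategory.quotient _ _).obj A'))]
    have hc : (HomotopyCategory.quotient _ _).map
          ((NatTrans.mapHomologicalComplex (EtBC.pushToPushPull g v gi t h.w) cx).app C) =
        (DRing.DerivedAdj.mapHomotopyCategoryAdj (EtCoh.pullPushAdj v)).unit.app
            ((HomotopyCategory.quotient _ _).obj A') ≫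
          ((EtCoh.push v).mapHomotopyCategory cx).map (qV.map b) := by
      refine Eq.trans ?_ ((HomotopyCategory.quotient _ _).map_comp _
        (((EtCoh.push v).mapHomologicalComplex cx).map b))
      refine congrArg (HomotopyCategory.quotient _ _).map ?_
      refine HomologicalComplex.Hom.ext (funext fun n => ?_)
      exact (((EtCoh.pullPushAdj v).homEquiv _ _).apply_symm_apply _).symm.trans
        ((EtCoh.pullPushAdj v).homEquiv_unit _ _ _)
    erw [hc]
    simp only [Functor.map_comp, Category.assoc]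
    refine congrArg (_ ≫ ·) ?_
    erw [← (S6694.unitD v).naturality_assoc (qV.map b)]
    rfl
  refine (isIso_transpose_iff adjD _).1 ?_
  have e2 : (EtBC.bcAdj g v gi t h.w).app (DerivedCategory.Qh.obj (qT.obj C)) =
      inv ((S6694.unitD g).app (qT.obj C)) ≫ (adjD.homEquiv _ _) X :=
    (IsIso.eq_inv_comp _).2 e1.symm
  erw [e2, adjD.homEquiv_naturality_left_symm, Equiv.symm_apply_apply]
  infer_instance

theorem univ_bcAdj' (K : DCoh.DEt T) : Univ (DCoh.RpushEt V v) ((EtBC.bcAdj g v gi t h.w).app K) := by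
  obtain ⟨C₀, hC⟩ := HomotopyCategory.quotient_obj_surjective
    ((DerivedCategory.Qh (C := EtCoh.Ab T)).objPreimage K)
  obtain ⟨C, sI, hI, hs, -, -⟩ := Groth.Agent.DHA.KInj.exists_resolution (EtCoh.Ab T) C₀
  haveI : IsIso (DerivedCategory.Qh.map ((HomotopyCategory.quotient _ _).map sI)) :=
    (NatIso.isIso_map_iff (DerivedCategory.quotientCompQhIso (EtCoh.Ab T)) sI).2 inferInstance
  let eK : DerivedCategory.Qh.obj ((HomotopyCategory.quotient (EtCoh.Ab T) (ComplexShape.up ℤ)).obj C) ≅ K :=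
    (asIso (DerivedCategory.Qh.map ((HomotopyCategory.quotient _ _).map sI))).symm ≪≫
      DerivedCategory.Qh.mapIso (eqToIso hC) ≪≫ DerivedCategory.Qh.objObjPreimageIso K
  obtain ⟨adjD, -⟩ := exists_adj v
  refine (isIso_transpose_iff adjD _).1 ((S6694.isIso_bcMap_iff g v gi t h.w adjD eK).1 ?_)
  exact (isIso_transpose_iff adjD _).2 (univ_bcAdj g v gi t h C)

end Etale

section

variable {X S Y T W Z : Scheme.{u}} (f : X ⟶ S) (g : T ⟶ S) (h : Y ⟶ X) (e : Y ⟶ T) (w : e ≫ g = h ≫ f)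
    (i : W ⟶ X) (j : Z ⟶ W) (k : Z ⟶ Y) (w' : k ≫ h = j ≫ i) (w'' : (k ≫ e) ≫ g = j ≫ (i ≫ f))
  [PreservesFiniteLimits (EtCoh.pull e)] [PreservesFiniteLimits (EtCoh.pull k)]
  [PreservesFiniteLimits (EtCoh.pull (k ≫ e))] [PreservesFiniteLimits (EtCoh.pull f)]
  [PreservesFiniteLimits (EtCoh.pull i)]
  [DCoh.HasRpushEt T g] [DCoh.HasRpushEt Y h] [DCoh.HasRpushEt Z j] [DCoh.HasRpushEt X f]
  [DCoh.HasRpushEt W i] [DCoh.HasRpushEt W (i ≫ f)]

theorem isIso_pull_map_bcMap (adj : EtBC.pullD f ⊣ DCoh.RpushEt X f) (K : DCoh.DEt T)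
    (a2 : ∀ L, Univ (DCoh.RpushEt W i) ((EtBC.bcAdj h i j k w').app L))
    (a3 : Univ (DCoh.RpushEt W (i ≫ f)) ((EtBC.bcAdj g (i ≫ f) j (k ≫ e) w'').app K)) :
    IsIso ((EtBC.pullD i).map (EtBC.bcMap g f h e w adj K)) := by
  obtain ⟨adj', -⟩ := exists_adj i
  haveI := Groth.Agent.S4329.result i f
  obtain ⟨C₀, hC⟩ := HomotopyCategory.quotient_obj_surjective
    ((DerivedCategory.Qh (C := EtCoh.Ab T)).objPreimage K)
  obtain ⟨C, sI, hI, hs, -, -⟩ := Groth.Agent.DHA.KInj.exists_resolution (EtCoh.Ab T) C₀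
  haveI : IsIso (DerivedCategory.Qh.map ((HomotopyCategory.quotient _ _).map sI)) :=
    (NatIso.isIso_map_iff (DerivedCategory.quotientCompQhIso (EtCoh.Ab T)) sI).2 inferInstance
  let eK : DerivedCategory.Qh.obj ((HomotopyCategory.quotient (EtCoh.Ab T) (ComplexShape.up ℤ)).obj C) ≅ K :=
    (asIso (DerivedCategory.Qh.map ((HomotopyCategory.quotient _ _).map sI))).symm ≪≫
      DerivedCategory.Qh.mapIso (eqToIso hC) ≪≫ DerivedCategory.Qh.objObjPreimageIso K
  have hn : (EtBC.pullD f).map ((DCoh.RpushEt T g).map eK.hom) ≫ EtBC.bcMap g f h e w adj K =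
      EtBC.bcMap g f h e w adj _ ≫ (DCoh.RpushEt Y h).map ((EtBC.pullD e).map eK.hom) := by
    simp only [EtBC.bcMap]
    rw [← adj.homEquiv_naturality_left_symm, ← adj.homEquiv_naturality_right_symm]
    exact congrArg _ ((EtBC.bcAdj g f h e w).naturality eK.hom)
  suffices hK : IsIso ((EtBC.pullD i).map (EtBC.bcMap g f h e w adj
      (DerivedCategory.Qh.obj ((HomotopyCategory.quotient (EtCoh.Ab T) (ComplexShape.up ℤ)).obj C)))) by
    have : IsIso ((EtBC.pullD i).map ((EtBC.pullD f).map ((DCoh.RpushEt T g).map eK.hom)) ≫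
        (EtBC.pullD i).map (EtBC.bcMap g f h e w adj K)) := by
      rw [← Functor.map_comp, hn, Functor.map_comp]
      infer_instance
    exact IsIso.of_isIso_comp_left ((EtBC.pullD i).map ((EtBC.pullD f).map ((DCoh.RpushEt T g).map eK.hom))) _
  let qT := HomotopyCategory.quotient (EtCoh.Ab T) (ComplexShape.up ℤ)
  let qY := HomotopyCategory.quotient (EtCoh.Ab Y) (ComplexShape.up ℤ)
  let qZ := HomotopyCategory.quotient (EtCoh.Ab Z) (ComplexShape.up ℤ)
  let pe := (EtCoh.pull e).mapHomologicalComplex (ComplexShape.up ℤ)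
  haveI : IsIso ((NatTrans.mapHomologicalComplex (EtCore.pullComp k e).hom (ComplexShape.up ℤ)).app C) :=
    ((NatIso.mapHomologicalComplex (EtCore.pullComp k e) (ComplexShape.up ℤ)).app C).isIso_hom
  let φ : (EtBC.pullD (k ≫ e)).obj (DerivedCategory.Qh.obj (qT.obj C)) ≅
      (EtBC.pullD k).obj ((EtBC.pullD e).obj (DerivedCategory.Qh.obj (qT.obj C))) :=
    (EtCoh.pull (k ≫ e)).mapDerivedCategoryFactorsh.app (qT.obj C) ≪≫
      DerivedCategory.Qh.mapIso (qZ.mapIso (asIso
        ((NatTrans.mapHomologicalComplex (EtCore.pullComp k e).hom (ComplexShape.up ℤ)).app C))) ≪≫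
      ((EtCoh.pull k).mapDerivedCategoryFactorsh.app (qY.obj (pe.obj C))).symm ≪≫
      (EtBC.pullD k).mapIso ((EtCoh.pull e).mapDerivedCategoryFactorsh.app (qT.obj C)).symm
  let θR : DCoh.RpushEt W i ⋙ DCoh.RpushEt X f ≅ DCoh.RpushEt W (i ≫ f) := (asIso (EtSix.compMap i f)).symm
  refine isIso_map_transpose_of_paste adj adj' θR (a2 _) ?_
  have a3' : Univ (DCoh.RpushEt W (i ≫ f)) ((EtBC.bcAdj g (i ≫ f) j (k ≫ e) w'').app
      (DerivedCategory.Qh.obj (qT.obj C))) := fun M => by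
    have hnat := (EtBC.bcAdj g (i ≫ f) j (k ≫ e) w'').naturality eK.hom
    let ψ := (DCoh.RpushEt Z j).map ((EtBC.pullD (k ≫ e)).map eK.hom)
    have : (fun v => (EtBC.bcAdj g (i ≫ f) j (k ≫ e) w'').app (DerivedCategory.Qh.obj (qT.obj C)) ≫
        (DCoh.RpushEt W (i ≫ f)).map v) =
        (fun x => (DCoh.RpushEt T g).map eK.hom ≫ x) ∘
          (fun v : _ ⟶ M => (EtBC.bcAdj g (i ≫ f) j (k ≫ e) w'').app K ≫ (DCoh.RpushEt W (i ≫ f)).map v) ∘
          ((asIso ψ).homFromEquiv) := by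
      funext v
      simp only [Function.comp_apply]
      refine Eq.symm ((Category.assoc _ _ _).symm.trans ((congrArg (· ≫ _) hnat).trans
        ((Category.assoc _ _ _).trans (congrArg (_ ≫ ·) ?_))))
      refine ((DCoh.RpushEt W (i ≫ f)).map_comp _ _).symm.trans (congrArg (DCoh.RpushEt W (i ≫ f)).map ?_)
      simp [ψ]
    exact this ▸ (((DCoh.RpushEt T g).mapIso eK).symm.homFromEquiv.bijective.comp
      ((a3 M).comp (Equiv.bijective _)))
  intro M
  have hp := S6694.paste_eq f g h e w i j k w' w'' C φ.hom rfl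
  have : (fun v : _ ⟶ M => ((EtBC.bcAdj g f h e w).app (DerivedCategory.Qh.obj (qT.obj C)) ≫
      (DCoh.RpushEt X f).map ((EtBC.bcAdj h i j k w').app
        ((EtBC.pullD e).obj (DerivedCategory.Qh.obj (qT.obj C)))) ≫ θR.hom.app _) ≫
      (DCoh.RpushEt W (i ≫ f)).map v) =
      (fun v => (EtBC.bcAdj g (i ≫ f) j (k ≫ e) w'').app (DerivedCategory.Qh.obj (qT.obj C)) ≫
        (DCoh.RpushEt W (i ≫ f)).map v) ∘ (((DCoh.RpushEt Z j).mapIso φ).symm.homFromEquiv) := by
    funext v
    refine ((congrArg (· ≫ _) hp.symm).trans ((Category.assoc _ _ _).trans (congrArg (_ ≫ ·) ?_)))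
    exact ((DCoh.RpushEt W (i ≫ f)).map_comp _ _).symm
  exact this ▸ (a3' M).comp (Equiv.bijective _)

end

theorem isIso_bcMap_congr {S T W Z : Scheme.{u}} (g : T ⟶ S) {b b' : W ⟶ S} (hb : b = b') (j : Z ⟶ W)
    {d d' : Z ⟶ T} (hd : d = d') (hw : d ≫ g = j ≫ b) (hw' : d' ≫ g = j ≫ b')
    [PreservesFiniteLimits (EtCoh.pull d)] [PreservesFiniteLimits (EtCoh.pull d')]
    [DCoh.HasRpushEt T g] [DCoh.HasRpushEt Z j] [DCoh.HasRpushEt W b] [DCoh.HasRpushEt W b'] (K : DCoh.DEt T)
    (H : Univ (DCoh.RpushEt W b) ((EtBC.bcAdj g b j d hw).app K)) :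
    Univ (DCoh.RpushEt W b') ((EtBC.bcAdj g b' j d' hw').app K) := by
  subst hb hd
  exact H

theorem isIso_bcMap_of_etale_local {X S Y T : Scheme.{u}} (f : X ⟶ S) (g : T ⟶ S) (h : Y ⟶ X) (e : Y ⟶ T)
    (c : IsPullback e h g f) [PreservesFiniteLimits (EtCoh.pull e)] [PreservesFiniteLimits (EtCoh.pull f)]
    [DCoh.HasRpushEt T g] [DCoh.HasRpushEt Y h] [DCoh.HasRpushEt X f] (adj : EtBC.pullD f ⊣ DCoh.RpushEt X f)
    (K : DCoh.DEt T)
    {ι : Type u} (U : ι → X.Etale) (hU : EtCoh.Covers U) (V : ι → S.Etale)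
    (a : ∀ i, (U i).left ⟶ (V i).left) (ha : ∀ i, a i ≫ (V i).hom = (U i).hom ≫ f)
    (Ti Yi : ι → Scheme.{u}) (gi : ∀ i, Ti i ⟶ (V i).left) (ti : ∀ i, Ti i ⟶ T)
    (cT : ∀ i, IsPullback (ti i) (gi i) g (V i).hom)
    (hi : ∀ i, Yi i ⟶ (U i).left) (ei : ∀ i, Yi i ⟶ Ti i) (cY : ∀ i, IsPullback (ei i) (hi i) (gi i) (a i))
    [∀ i, PreservesFiniteLimits (EtCoh.pull (ei i))] [∀ i, PreservesFiniteLimits (EtCoh.pull (a i))]
    [∀ i, PreservesFiniteLimits (EtCoh.pull (ti i))]
    [∀ i, DCoh.HasRpushEt (Ti i) (gi i)] [∀ i, DCoh.HasRpushEt (Yi i) (hi i)]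
    [∀ i, DCoh.HasRpushEt (U i).left (a i)]
    (adji : ∀ i, EtBC.pullD (a i) ⊣ DCoh.RpushEt (U i).left (a i))
    (hloc : ∀ i, IsIso (EtBC.bcMap (gi i) (a i) (hi i) (ei i) (cY i).w (adji i) ((EtBC.pullD (ti i)).obj K))) :
    IsIso (EtBC.bcMap g f h e c.w adj K) := by
  haveI hUp : ∀ i, PreservesFiniteLimits (EtCoh.pull (U i).hom) := fun i =>
    haveI : Etale (U i).hom := (U i).prop
    preservesFiniteLimits_pull_etale _
  refine isIso_of_pull _ U hU fun i => ?_
  haveI : Etale (U i).hom := (U i).prop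
  haveI : Etale (V i).hom := (V i).prop
  haveI : Etale (ti i) := MorphismProperty.of_isPullback (P := @Etale) (cT i).flip inferInstance
  haveI := preservesFiniteLimits_pull_etale (V i).hom
  haveI := preservesFiniteLimits_pull_comp (ei i) (ti i)
  haveI := preservesFiniteLimits_pull_comp (a i) (V i).hom
  haveI hall : ∀ {A B : Scheme.{u}} (q : A ⟶ B), DCoh.HasRpushEt A q := fun q => hasRpushEt q
  have hbig : IsPullback (ei i ≫ ti i) (hi i) g (a i ≫ (V i).hom) := (cY i).paste_horiz (cT i)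
  obtain ⟨adjv, -⟩ := exists_adj (B := S) (V i).hom
  obtain ⟨adjb, -⟩ := exists_adj (B := S) (a i ≫ (V i).hom)
  have h0 : IsIso (EtBC.bcMap g (V i).hom (gi i) (ti i) (cT i).w adjv K) :=
    (isIso_transpose_iff adjv _).2 (univ_bcAdj' g (V i).hom (gi i) (ti i) (cT i) K)
  have h1 : Univ (DCoh.RpushEt _ (a i ≫ (V i).hom))
      ((EtBC.bcAdj g (a i ≫ (V i).hom) (hi i) (ei i ≫ ti i) hbig.w).app K) :=
    (isIso_transpose_iff adjb _).1 (S6694.result (V i).hom g (gi i) (ti i) (cT i) (a i) (hi i) (ei i) (cY i) hbig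
      adjv (adji i) adjb K h0 (hloc i))
  let y : Yi i ⟶ Y := c.lift (ei i ≫ ti i) (hi i ≫ (U i).hom) (by
    rw [Category.assoc (hi i), ← ha i]; exact hbig.w)
  have hy1 : y ≫ e = ei i ≫ ti i := c.lift_fst _ _ _
  have hy2 : y ≫ h = hi i ≫ (U i).hom := c.lift_snd _ _ _
  have cy : IsPullback y (hi i) h (U i).hom :=
    IsPullback.of_right (by rw [hy1, ← ha i]; exact hbig) hy2 c
  haveI : Etale y := MorphismProperty.of_isPullback (P := @Etale) cy.flip inferInstance
  haveI := preservesFiniteLimits_pull_etale y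
  haveI := preservesFiniteLimits_pull_comp y e
  have w3 : (y ≫ e) ≫ g = hi i ≫ (U i).hom ≫ f := by rw [hy1, ← ha i]; exact hbig.w
  exact isIso_pull_map_bcMap f g h e c.w (U i).hom (hi i) y cy.w w3 adj K
    (fun L => univ_bcAdj' h (U i).hom (hi i) y cy L)
    (isIso_bcMap_congr g (ha i) (hi i) hy1.symm hbig.w w3 K h1)

end Groth.Agent.EtBCLib.DLocal
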