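import Groth.Prelude.Def_RDer

/-!
# Base change maps of right derived functors

The map `R^q G M ⟶ F (R^q H N)` attached to a square of functors and `u : M ⟶ P N`, and its
behaviour under pasting of squares.
-/

universe v₁ v₂ v₃ v₄ v₅ v₆ u₁ u₂ u₃ u₄ u₅ u₆

open CategoryTheory CategoryTheory.Limits HomologicalComplex

noncomputable section

set_option backward.isDefEq.respectTransparency false
set_option backward.isDefEq.respectTransparency.types false
set_option autoImplicit false

namespace Groth.Agent.EtBCLib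

section Htpy

variable {C : Type u₁} [Category.{v₁} C] [Abelian C] {Y : C} (I : InjectiveResolution Y)
  {L : CochainComplex C ℕ} [hL : ∀ n, Injective (L.X n)]

/-- A cochain map out of a resolution into injectives vanishing on the resolved object is null homotopic. -/
def homotopyZero (f : I.cocomplex ⟶ L) (comm : I.ι.f 0 ≫ f.f 0 = 0) : Homotopy f 0 :=
  Homotopy.mkCoinductive _ (I.exact₀.descToInjective (f.f 0) comm)
    (I.exact₀.comp_descToInjective _ _).symm
    ((I.exact_succ 0).descToInjective (f.f 1 - I.exact₀.descToInjective (f.f 0) comm ≫ L.d 0 1)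
      (by rw [Preadditive.comp_sub, I.exact₀.comp_descToInjective_assoc, HomologicalComplex.Hom.comm, sub_self]))
    (by rw [(I.exact_succ 0).comp_descToInjective]; abel)
    (fun n ⟨g, g', w⟩ => ⟨(I.exact_succ (n + 1)).descToInjective (f.f (n + 2) - g' ≫ L.d _ _) (by
        dsimp
        rw [Preadditive.comp_sub, ← HomologicalComplex.Hom.comm, w, Preadditive.add_comp,
          Category.assoc, Category.assoc, HomologicalComplex.d_comp_d]
        simp), by
      rw [(I.exact_succ (n + 1)).comp_descToInjective]; abel⟩)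

/-- Two cochain maps agreeing on the resolved object are homotopic. -/
def homotopyOfEq (f g : I.cocomplex ⟶ L) (h : I.ι.f 0 ≫ f.f 0 = I.ι.f 0 ≫ g.f 0) : Homotopy f g :=
  Homotopy.equivSubZero.invFun (homotopyZero I _ (by
    rw [HomologicalComplex.sub_f_apply, Preadditive.comp_sub, h, sub_self]))

end Htpy

section Comparison

variable {B : Type u₁} [Category.{v₁} B] [Abelian B] {C : Type u₂} [Category.{v₂} C] [Abelian C]
  (Ψ : B ⥤ C) [Ψ.Additive] [PreservesFiniteLimits Ψ]
  {D : Type u₃} [Category.{v₃} D] [Abelian D] (Φ : D ⥤ B) [Φ.Additive] [PreservesFiniteLimits Φ]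
  {Θ : D ⥤ C} [Θ.Additive] [PreservesFiniteLimits Θ] (θ : Φ ⋙ Ψ ⟶ Θ)

lemma cyclesMap_cyclesComparison' {K L : CochainComplex B ℕ} (φ : K ⟶ L) (i : ℕ) :
    HomologicalComplex.cyclesMap ((Ψ.mapHomologicalComplex _).map φ) i ≫ RDer.cyclesComparison Ψ L i =
      RDer.cyclesComparison Ψ K i ≫ Ψ.map (HomologicalComplex.cyclesMap φ i) := by
  rw [← cancel_mono (Ψ.map (L.iCycles i)), Category.assoc, Category.assoc, RDer.cyclesComparison_i]
  erw [HomologicalComplex.cyclesMap_i]
  rw [← Ψ.map_comp, HomologicalComplex.cyclesMap_i, Ψ.map_comp, RDer.cyclesComparison_i_assoc]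
  rfl

/-- Naturality of the comparison of homology. -/
lemma homologyMap_homologyComparison {K L : CochainComplex B ℕ} (φ : K ⟶ L) (i : ℕ) :
    HomologicalComplex.homologyMap ((Ψ.mapHomologicalComplex _).map φ) i ≫ RDer.homologyComparison Ψ L i =
      RDer.homologyComparison Ψ K i ≫ Ψ.map (HomologicalComplex.homologyMap φ i) := by
  rw [← cancel_epi (((Ψ.mapHomologicalComplex (ComplexShape.up ℕ)).obj K).homologyπ i)]
  rw [HomologicalComplex.homologyπ_naturality_assoc, RDer.homologyπ_homologyComparison,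
    RDer.homologyπ_homologyComparison_assoc, ← Ψ.map_comp, HomologicalComplex.homologyπ_naturality, Ψ.map_comp]
  exact (Category.assoc _ _ _).symm.trans ((congrArg (· ≫ _) (cyclesMap_cyclesComparison' Ψ φ i)).trans
    (Category.assoc _ _ _))

/-- The comparison of homology for a composite of functors. -/
lemma homologyComparison_comp (K : CochainComplex D ℕ) (i : ℕ) :
    RDer.homologyComparison Ψ ((Φ.mapHomologicalComplex _).obj K) i ≫
        Ψ.map (RDer.homologyComparison Φ K i) ≫ θ.app (K.homology i) =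
      HomologicalComplex.homologyMap ((NatTrans.mapHomologicalComplex θ (ComplexShape.up ℕ)).app K) i ≫
        RDer.homologyComparison Θ K i := by
  rw [← cancel_epi (((Ψ.mapHomologicalComplex (ComplexShape.up ℕ)).obj
    ((Φ.mapHomologicalComplex _).obj K)).homologyπ i)]
  rw [RDer.homologyπ_homologyComparison_assoc]
  erw [HomologicalComplex.homologyπ_naturality_assoc
    ((NatTrans.mapHomologicalComplex θ (ComplexShape.up ℕ)).app K) i]
  rw [RDer.homologyπ_homologyComparison]
  have hm : Mono (Θ.map (K.iCycles i)) := inferInstance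
  have hc : HomologicalComplex.cyclesMap ((NatTrans.mapHomologicalComplex θ (ComplexShape.up ℕ)).app K) i ≫
      RDer.cyclesComparison Θ K i = RDer.cyclesComparison Ψ ((Φ.mapHomologicalComplex _).obj K) i ≫
        Ψ.map (RDer.cyclesComparison Φ K i) ≫ θ.app (K.cycles i) := by
    refine hm.right_cancellation _ _ ?_
    simp only [Category.assoc, RDer.cyclesComparison_i]
    erw [HomologicalComplex.cyclesMap_i]
    erw [← θ.naturality (K.iCycles i)]
    refine Eq.symm ((congrArg (RDer.cyclesComparison Ψ _ i ≫ ·) ((Category.assoc _ _ _).symm.trans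
      (congrArg (· ≫ θ.app _) ((Ψ.map_comp _ _).symm.trans
        (congrArg Ψ.map (RDer.cyclesComparison_i Φ K i)))))).trans ?_)
    exact (Category.assoc _ _ _).symm.trans (congrArg (· ≫ θ.app _)
      (RDer.cyclesComparison_i Ψ ((Φ.mapHomologicalComplex _).obj K) i))
  refine Eq.trans ?_ ((congrArg (· ≫ Θ.map (K.homologyπ i)) hc).symm.trans (Category.assoc _ _ _))
  simp only [Category.assoc]
  refine congrArg (_ ≫ ·) ?_
  refine (Category.assoc _ _ _).symm.trans ((congrArg (· ≫ θ.app _) ((Ψ.map_comp _ _).symm.trans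
    ((congrArg Ψ.map (RDer.homologyπ_homologyComparison Φ K i)).trans (Ψ.map_comp _ _)))).trans ?_)
  exact (Category.assoc _ _ _).trans (congrArg (_ ≫ ·) (θ.naturality (K.homologyπ i)))

end Comparison

section AdjMap

variable {T : Type u₁} [Category.{v₁} T] [Abelian T] [HasInjectiveResolutions T]
  {Y : Type u₂} [Category.{v₂} Y] [Abelian Y] [HasInjectiveResolutions Y]
  {X : Type u₃} [Category.{v₃} X] [Abelian X]
  {S : Type u₄} [Category.{v₄} S] [Abelian S]
  {P : Y ⥤ T} [P.Additive] [P.PreservesInjectiveObjects]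
  {G : T ⥤ S} [G.Additive] {H : Y ⥤ X} [H.Additive]
  {F : X ⥤ S} [F.Additive] [PreservesFiniteLimits F]
  (σ : P ⋙ G ≅ H ⋙ F) {M : T} {N : Y} (u : M ⟶ P.obj N) (q : ℕ)

/-- The base change map in adjoint form. -/
def adjMap : (G.rightDerived q).obj M ⟶ F.obj ((H.rightDerived q).obj N) :=
  (G.rightDerived q).map u ≫ RDer.edgeIn P G q N ≫ (RDer.rightDerivedIso σ q).hom.app N ≫
    RDer.edgeOut H F q N

/-- A cochain map lying over `u` exists. -/
theorem exists_chain : ∃ a : (injectiveResolution M).cocomplex ⟶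
    (P.mapHomologicalComplex (ComplexShape.up ℕ)).obj (injectiveResolution N).cocomplex,
    (injectiveResolution M).ι.f 0 ≫ a.f 0 = u ≫ P.map ((injectiveResolution N).ι.f 0) := by
  refine ⟨RDer.descToInjectives u (injectiveResolution M).cocomplex (injectiveResolution M).ι _
    (RDer.mapAug P (injectiveResolution N).ι), ?_⟩
  rw [RDer.ι_descToInjectives_f_zero]
  simp [RDer.mapAug]

omit [Abelian S] in
lemma chase' {X₁ X₂ X₃ X₄ X₅ Y₁ Y₂ Y₃ Z : S} {A₁ : X₂ ⟶ X₃} (e₁ : X₁ ≅ X₂) (e₂ : Y₁ ≅ X₃) {B₁ : X₃ ⟶ X₄}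
    (e₃ : Y₂ ≅ X₄) {C₁ : X₄ ⟶ X₅} (e₄ : Y₃ ≅ X₅) {D₁ : X₅ ⟶ Z} :
    (e₁.hom ≫ A₁ ≫ e₂.inv) ≫ (e₂.hom ≫ B₁ ≫ e₃.inv) ≫ (e₃.hom ≫ C₁ ≫ e₄.inv) ≫ (e₄.hom ≫ D₁) =
      e₁.hom ≫ A₁ ≫ B₁ ≫ C₁ ≫ D₁ := by
  simp

/-- The base change map computed on any cochain map lying over `u`. -/
theorem adjMap_eq (a : (injectiveResolution M).cocomplex ⟶
      (P.mapHomologicalComplex (ComplexShape.up ℕ)).obj (injectiveResolution N).cocomplex)
    (ha : (injectiveResolution M).ι.f 0 ≫ a.f 0 = u ≫ P.map ((injectiveResolution N).ι.f 0)) :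
    adjMap σ u q = ((injectiveResolution M).isoRightDerivedObj G q).hom ≫
      HomologicalComplex.homologyMap ((G.mapHomologicalComplex _).map a ≫
        (NatTrans.mapHomologicalComplex σ.hom (ComplexShape.up ℕ)).app (injectiveResolution N).cocomplex) q ≫
      RDer.homologyComparison F ((H.mapHomologicalComplex _).obj (injectiveResolution N).cocomplex) q ≫
      F.map ((injectiveResolution N).isoRightDerivedObj H q).inv := by
  let J := injectiveResolution (P.obj N)
  let d₁ := InjectiveResolution.desc u J (injectiveResolution M)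
  let d₂ := RDer.descToInjectives (𝟙 (P.obj N)) J.cocomplex J.ι
    ((P.mapHomologicalComplex _).obj (injectiveResolution N).cocomplex)
    (RDer.mapAug P (injectiveResolution N).ι)
  have h0 : (injectiveResolution M).ι.f 0 ≫ (d₁ ≫ d₂).f 0 =
      (injectiveResolution M).ι.f 0 ≫ a.f 0 := by
    have h1 := HomologicalComplex.congr_hom (InjectiveResolution.desc_commutes u J (injectiveResolution M)) 0
    rw [HomologicalComplex.comp_f, HomologicalComplex.comp_f] at h1
    rw [ha, HomologicalComplex.comp_f]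
    erw [reassoc_of% h1]
    erw [RDer.ι_descToInjectives_f_zero]
    simp [RDer.mapAug]
  have key : HomologicalComplex.homologyMap ((G.mapHomologicalComplex _).map d₁) q ≫
      HomologicalComplex.homologyMap ((G.mapHomologicalComplex _).map d₂) q =
      HomologicalComplex.homologyMap ((G.mapHomologicalComplex _).map a) q := by
    rw [← HomologicalComplex.homologyMap_comp, ← Functor.map_comp]
    exact (G.mapHomotopy (homotopyOfEq _ _ _ h0)).homologyMap_eq q
  have h1 := G.rightDerived_map_eq q u (P := injectiveResolution M) (Q := J) d₁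
    (InjectiveResolution.desc_commutes _ _ _)
  have h2 : (RDer.rightDerivedIso σ q).hom.app N = _ :=
    InjectiveResolution.rightDerived_app_eq σ.hom (injectiveResolution N) q
  refine (congrArg₂ (fun x y => x ≫ RDer.edgeIn P G q N ≫ y ≫ RDer.edgeOut H F q N) h1 h2).trans ?_
  refine (chase' (S := S) _ _ _ _).trans ?_
  refine congrArg (_ ≫ ·) ?_
  rw [HomologicalComplex.homologyMap_comp, ← key]
  simp only [Category.assoc]
  rfl

/-- Naturality in the target object. -/
theorem adjMap_comp_map {N' : Y} (φ : N ⟶ N') :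
    adjMap σ (u ≫ P.map φ) q = adjMap σ u q ≫ F.map ((H.rightDerived q).map φ) := by
  obtain ⟨a, ha⟩ := exists_chain u (P := P)
  let d := InjectiveResolution.desc φ (injectiveResolution N') (injectiveResolution N)
  have hd := HomologicalComplex.congr_hom
    (InjectiveResolution.desc_commutes φ (injectiveResolution N') (injectiveResolution N)) 0
  rw [HomologicalComplex.comp_f, HomologicalComplex.comp_f, CochainComplex.single₀_map_f_zero] at hd
  rw [adjMap_eq σ (u ≫ P.map φ) q (a ≫ (P.mapHomologicalComplex _).map d) (by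
      rw [HomologicalComplex.comp_f, reassoc_of% ha, Category.assoc]
      erw [← P.map_comp, ← P.map_comp]
      exact congrArg (fun x => u ≫ P.map x) hd),
    adjMap_eq σ u q a ha]
  simp only [Category.assoc]
  refine congrArg (_ ≫ ·) ?_
  have hr : (H.rightDerived q).map φ = _ :=
    H.rightDerived_map_eq q φ (P := injectiveResolution N) (Q := injectiveResolution N') d
      (InjectiveResolution.desc_commutes _ _ _)
  rw [hr, ← F.map_comp, Iso.inv_hom_id_assoc]
  refine Eq.trans ?_ (congrArg (fun x => _ ≫ _ ≫ x) (F.map_comp _ _).symm)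
  refine Eq.trans ?_ (congrArg (_ ≫ ·) ((congrArg (· ≫ _) (homologyMap_homologyComparison F
    ((H.mapHomologicalComplex _).map d) q)).trans (Category.assoc _ _ _)))
  simp only [← Category.assoc]
  refine congrArg (· ≫ _) (congrArg (· ≫ _) ?_)
  refine Eq.trans ?_ (HomologicalComplex.homologyMap_comp _ _ q)
  refine congrArg (fun x => HomologicalComplex.homologyMap x q) ?_
  rw [Functor.map_comp]
  refine (Category.assoc _ _ _).trans ?_
  refine Eq.trans ?_ (Category.assoc _ _ _).symm
  exact congrArg (_ ≫ ·) ((NatTrans.mapHomologicalComplex σ.hom (ComplexShape.up ℕ)).naturality d)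

end AdjMap

section Paste

variable {T : Type u₁} [Category.{v₁} T] [Abelian T] [HasInjectiveResolutions T]
  {Y : Type u₂} [Category.{v₂} Y] [Abelian Y] [HasInjectiveResolutions Y]
  {X : Type u₃} [Category.{v₃} X] [Abelian X]
  {S : Type u₄} [Category.{v₄} S] [Abelian S]
  {Z : Type u₅} [Category.{v₅} Z] [Abelian Z] [HasInjectiveResolutions Z]
  {W : Type u₆} [Category.{v₆} W] [Abelian W]
  {P : Y ⥤ T} [P.Additive] [P.PreservesInjectiveObjects]
  {P' : Z ⥤ Y} [P'.Additive] [P'.PreservesInjectiveObjects]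
  {Q : Z ⥤ T} [Q.Additive] [Q.PreservesInjectiveObjects]
  {G : T ⥤ S} [G.Additive] {H : Y ⥤ X} [H.Additive]
  {F : X ⥤ S} [F.Additive] [PreservesFiniteLimits F]
  {J : Z ⥤ W} [J.Additive] {K : W ⥤ X} [K.Additive] [PreservesFiniteLimits K]
  {E : W ⥤ S} [E.Additive] [PreservesFiniteLimits E]
  (σ : P ⋙ G ≅ H ⋙ F) (σ' : P' ⋙ H ≅ J ⋙ K) (τ : Q ⋙ G ≅ J ⋙ E)
  (θP : P' ⋙ P ≅ Q) (θE : K ⋙ F ≅ E)

/-- Pasting of base change maps. -/
theorem adjMap_paste
    (coh : ∀ x : Z, G.map (θP.hom.app x) ≫ τ.hom.app x =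
      σ.hom.app (P'.obj x) ≫ F.map (σ'.hom.app x) ≫ θE.hom.app (J.obj x))
    {M : T} {N : Y} {N' : Z} (u : M ⟶ P.obj N) (u' : N ⟶ P'.obj N') (q : ℕ) :
    adjMap τ (u ≫ P.map u' ≫ θP.hom.app N') q =
      adjMap σ u q ≫ F.map (adjMap σ' u' q) ≫ θE.hom.app ((J.rightDerived q).obj N') := by
  obtain ⟨a, ha⟩ := exists_chain u (P := P)
  obtain ⟨a', ha'⟩ := exists_chain u' (P := P')
  let L := (injectiveResolution N').cocomplex
  have h'' : (injectiveResolution M).ι.f 0 ≫ (a ≫ (P.mapHomologicalComplex _).map a' ≫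
      (NatTrans.mapHomologicalComplex θP.hom (ComplexShape.up ℕ)).app L).f 0 =
      (u ≫ P.map u' ≫ θP.hom.app N') ≫ Q.map ((injectiveResolution N').ι.f 0) := by
    simp only [HomologicalComplex.comp_f, Category.assoc]
    rw [reassoc_of% ha]
    refine congrArg (u ≫ ·) ?_
    refine (Category.assoc _ _ _).symm.trans ((congrArg (· ≫ θP.hom.app (L.X 0))
      ((P.map_comp _ _).symm.trans ((congrArg P.map ha').trans (P.map_comp _ _)))).trans ?_)
    exact (Category.assoc _ _ _).trans (congrArg (_ ≫ ·) (θP.hom.naturality _))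
  rw [adjMap_eq τ _ q _ h'', adjMap_eq σ u q a ha, adjMap_eq σ' u' q a' ha']
  simp only [Category.assoc, Functor.map_comp]
  refine congrArg (_ ≫ ·) ?_
  rw [← F.map_comp_assoc ((injectiveResolution N).isoRightDerivedObj H q).inv, Iso.inv_hom_id, F.map_id,
    Category.id_comp, ← reassoc_of% (homologyMap_homologyComparison F
      ((H.mapHomologicalComplex _).map a' ≫
        (NatTrans.mapHomologicalComplex σ'.hom (ComplexShape.up ℕ)).app L) q)]
  have hn := θE.hom.naturality ((injectiveResolution N').isoRightDerivedObj J q).inv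
  erw [hn]
  erw [reassoc_of% (homologyComparison_comp F K θE.hom ((J.mapHomologicalComplex _).obj L) q)]
  rw [← HomologicalComplex.homologyMap_comp_assoc, ← HomologicalComplex.homologyMap_comp_assoc]
  refine congrArg (fun x => HomologicalComplex.homologyMap x q ≫ _) ?_
  apply HomologicalComplex.Hom.ext
  funext n
  simp only [HomologicalComplex.comp_f, Functor.map_comp, Category.assoc]
  refine congrArg (_ ≫ ·) ?_
  refine (congrArg (_ ≫ ·) (coh (L.X n))).trans ?_
  refine (Category.assoc _ _ _).symm.trans ((congrArg (· ≫ _) (σ.hom.naturality (a'.f n))).trans ?_)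
  simp [Category.assoc]
  rfl

end Paste

section Univ

variable {C : Type u₁} [Category.{v₁} C] {D : Type u₂} [Category.{v₂} D]

/-- `a : A ⟶ R B` is universal from `A` to `R`. -/
def Univ (R : C ⥤ D) {A : D} {B : C} (a : A ⟶ R.obj B) : Prop :=
  ∀ Z : C, Function.Bijective (fun v : B ⟶ Z => a ≫ R.map v)

theorem isIso_transpose_iff {L : D ⥤ C} {R : C ⥤ D} (adj : L ⊣ R) {A : D} {B : C} (a : A ⟶ R.obj B) :
    IsIso ((adj.homEquiv A B).symm a) ↔ Univ R a := by
  have h : ∀ Z : C, (fun v : B ⟶ Z => a ≫ R.map v) =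
      (adj.homEquiv A Z) ∘ (fun v => (adj.homEquiv A B).symm a ≫ v) := fun Z => by
    funext v
    simp only [Function.comp_apply]
    rw [adj.homEquiv_naturality_right, Equiv.apply_symm_apply]
  constructor
  · intro _ Z
    rw [h Z]
    exact (adj.homEquiv A Z).bijective.comp
      ((asIso ((adj.homEquiv A B).symm a)).symm.homFromEquiv).bijective
  · intro hu
    have hb : ∀ Z : C, Function.Bijective (fun v : B ⟶ Z => (adj.homEquiv A B).symm a ≫ v) := fun Z => by
      refine ((adj.homEquiv A Z).bijective.of_comp_iff' _).1 ?_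
      rw [← h Z]
      exact hu Z
    obtain ⟨i, hi⟩ := (hb (L.obj A)).2 (𝟙 _)
    refine ⟨i, hi, (hb B).1 ?_⟩
    simp only at hi ⊢
    rw [← Category.assoc, hi, Category.id_comp, Category.comp_id]

theorem Univ.paste {C' : Type u₃} [Category.{v₃} C'] {F : C ⥤ D} {K : C' ⥤ C} {E : C' ⥤ D}
    (θ : K ⋙ F ≅ E) {A : D} {B : C} {B' : C'} {a : A ⟶ F.obj B} {b : B ⟶ K.obj B'}
    (ha : Univ F a) (hb : Univ K b) : Univ E (a ≫ F.map b ≫ θ.hom.app B') := fun Z => by
  have : (fun v : B' ⟶ Z => (a ≫ F.map b ≫ θ.hom.app B') ≫ E.map v) =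
      (fun m => m ≫ θ.hom.app Z) ∘ (fun m : B ⟶ K.obj Z => a ≫ F.map m) ∘
        (fun v : B' ⟶ Z => b ≫ K.map v) := by
    funext v
    simp only [Function.comp_apply, Category.assoc, Functor.map_comp]
    rw [← θ.hom.naturality v]
    rfl
  rw [this]
  exact ((θ.app Z).homToEquiv.bijective).comp ((ha _).comp (hb Z))

theorem Univ.of_comp_map {R : C ⥤ D} {A : D} {B B' : C} {a : A ⟶ R.obj B} (e : B ⟶ B') [IsIso e]
    (h : Univ R (a ≫ R.map e)) : Univ R a := fun Z => by
  have : (fun v : B ⟶ Z => a ≫ R.map v) =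
      (fun v : B' ⟶ Z => (a ≫ R.map e) ≫ R.map v) ∘ ((asIso e).homFromEquiv) := by
    funext v
    simp
  rw [this]
  exact (h Z).comp ((asIso e).homFromEquiv).bijective

end Univ

end Groth.Agent.EtBCLib
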