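import Groth.Agent.EtBCLib.EdgeBC

/-!
# Base change along an exact left adjoint
-/

universe v₁ v₂ v₃ v₄ u₁ u₂ u₃ u₄

open CategoryTheory CategoryTheory.Limits HomologicalComplex

noncomputable section

set_option backward.isDefEq.respectTransparency false
set_option backward.isDefEq.respectTransparency.types false
set_option autoImplicit false

namespace Groth.Agent.EtBCLib

section Exact

variable {S : Type u₁} [Category.{v₁} S] [Abelian S] {X : Type u₂} [Category.{v₂} X] [Abelian X]
  {F : X ⥤ S} [F.Additive] [PreservesFiniteLimits F]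
  {L : S ⥤ X} [L.Additive] [PreservesFiniteLimits L] [PreservesFiniteColimits L] (adj : L ⊣ F)

theorem isIso_homologyComparison_of_exact (K : CochainComplex S ℕ) (q : ℕ) :
    IsIso (RDer.homologyComparison L K q) := by
  let ΨK := (L.mapHomologicalComplex _).obj K
  let p := (ComplexShape.up ℕ).prev q
  let cc : IsColimit (CokernelCofork.ofπ (L.map (K.homologyπ q))
      (show L.map (K.toCycles p q) ≫ L.map (K.homologyπ q) = 0 by
        rw [← L.map_comp, HomologicalComplex.toCycles_comp_homologyπ, L.map_zero])) :=
    isColimitCoforkMapOfIsColimit' L _ (K.homologyIsCokernel p q rfl)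
  let hk := KernelFork.mapIsLimit _ (K.cyclesIsKernel q ((ComplexShape.up ℕ).next q) rfl) L
  let e := IsLimit.conePointUniqueUpToIso (ΨK.cyclesIsKernel q ((ComplexShape.up ℕ).next q) rfl) hk
  have he : e.hom = RDer.cyclesComparison L K q := by
    refine Fork.IsLimit.hom_ext hk ?_
    exact (IsLimit.conePointUniqueUpToIso_hom_comp _ hk WalkingParallelPair.zero).trans
      (RDer.cyclesComparison_i L K q).symm
  have : IsIso (RDer.cyclesComparison L K q) := he ▸ inferInstance
  have hw : L.map (K.toCycles p q) ≫ inv (RDer.cyclesComparison L K q) ≫ ΨK.homologyπ q = 0 := by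
    rw [← RDer.toCycles_cyclesComparison]
    exact (Category.assoc _ _ _).trans ((congrArg (_ ≫ ·) (IsIso.hom_inv_id_assoc _ _)).trans
      (HomologicalComplex.toCycles_comp_homologyπ _ _ _))
  let b : L.obj (K.homology q) ⟶ ΨK.homology q :=
    cc.desc (CokernelCofork.ofπ (inv (RDer.cyclesComparison L K q) ≫ ΨK.homologyπ q) hw)
  have hb : L.map (K.homologyπ q) ≫ b = inv (RDer.cyclesComparison L K q) ≫ ΨK.homologyπ q :=
    cc.fac _ WalkingParallelPair.one
  refine ⟨b, ?_, ?_⟩
  · rw [← cancel_epi (ΨK.homologyπ q), RDer.homologyπ_homologyComparison_assoc, hb,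
      IsIso.hom_inv_id_assoc, Category.comp_id]
  · refine Cofork.IsColimit.hom_ext cc ?_
    change L.map (K.homologyπ q) ≫ b ≫ RDer.homologyComparison L K q = L.map (K.homologyπ q) ≫ 𝟙 _
    rw [reassoc_of% hb, RDer.homologyπ_homologyComparison, IsIso.inv_hom_id_assoc, Category.comp_id]

/-- The unit on complexes. -/
def unitCx (C : CochainComplex S ℕ) :
    C ⟶ (F.mapHomologicalComplex (ComplexShape.up ℕ)).obj ((L.mapHomologicalComplex _).obj C) where
  f n := adj.unit.app (C.X n)
  comm' i j _ := (adj.unit.naturality (C.d i j)).symm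

theorem homologyMap_unitCx (C : CochainComplex S ℕ) (q : ℕ) :
    HomologicalComplex.homologyMap (unitCx adj C) q ≫
        RDer.homologyComparison F ((L.mapHomologicalComplex _).obj C) q ≫
        F.map (RDer.homologyComparison L C q) = adj.unit.app (C.homology q) := by
  rw [← cancel_epi (C.homologyπ q), HomologicalComplex.homologyπ_naturality_assoc,
    RDer.homologyπ_homologyComparison_assoc, ← F.map_comp, RDer.homologyπ_homologyComparison, F.map_comp]
  have hm : Mono ((L ⋙ F).map (C.iCycles q)) := inferInstance
  have hc : HomologicalComplex.cyclesMap (unitCx adj C) q ≫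
      RDer.cyclesComparison F ((L.mapHomologicalComplex _).obj C) q ≫ F.map (RDer.cyclesComparison L C q) =
      adj.unit.app (C.cycles q) := by
    refine hm.right_cancellation _ _ ?_
    simp only [Category.assoc]
    erw [← F.map_comp, RDer.cyclesComparison_i, RDer.cyclesComparison_i, HomologicalComplex.cyclesMap_i]
    exact adj.unit.naturality _
  refine ((Category.assoc _ _ _).symm.trans ((Category.assoc _ _ _).symm.trans
    (congrArg (· ≫ F.map (L.map (C.homologyπ q))) ((Category.assoc _ _ _).trans hc)))).trans ?_
  exact (adj.unit.naturality (C.homologyπ q)).symm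

end Exact

section Main

variable {T : Type u₁} [Category.{v₁} T] [Abelian T] [HasInjectiveResolutions T]
  {Y : Type u₂} [Category.{v₂} Y] [Abelian Y] [HasInjectiveResolutions Y]
  {X : Type u₃} [Category.{v₃} X] [Abelian X]
  {S : Type u₄} [Category.{v₄} S] [Abelian S]
  {P : Y ⥤ T} [P.Additive] [P.PreservesInjectiveObjects]
  {G : T ⥤ S} [G.Additive] {H : Y ⥤ X} [H.Additive]
  {F : X ⥤ S} [F.Additive] [PreservesFiniteLimits F]
  {L : S ⥤ X} [L.Additive] [PreservesFiniteLimits L] [PreservesFiniteColimits L] (adj : L ⊣ F)
  (σ : P ⋙ G ≅ H ⋙ F)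

/-- If the base change map is an isomorphism on each term of a resolution, it is one on derived functors. -/
theorem univ_adjMap_of_exact {M : T} {N : Y} (u : M ⟶ P.obj N) (P' : InjectiveResolution N)
    (a : (injectiveResolution M).cocomplex ⟶ (P.mapHomologicalComplex (ComplexShape.up ℕ)).obj P'.cocomplex)
    (ha : (injectiveResolution M).ι.f 0 ≫ a.f 0 = u ≫ P.map (P'.ι.f 0))
    (hdeg : ∀ n, IsIso ((adj.homEquiv _ _).symm (G.map (a.f n) ≫ σ.hom.app (P'.cocomplex.X n))))
    (q : ℕ) : Univ F (adjMap σ u q) := by
  let e := InjectiveResolution.homotopyEquiv P' (injectiveResolution N)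
  have he : P'.ι.f 0 ≫ e.hom.f 0 = (injectiveResolution N).ι.f 0 := by
    have := HomologicalComplex.congr_hom (InjectiveResolution.homotopyEquiv_hom_ι P' (injectiveResolution N)) 0
    exact this
  let C := (G.mapHomologicalComplex (ComplexShape.up ℕ)).obj (injectiveResolution M).cocomplex
  let c : C ⟶ (F.mapHomologicalComplex (ComplexShape.up ℕ)).obj ((H.mapHomologicalComplex _).obj P'.cocomplex) :=
    (G.mapHomologicalComplex _).map a ≫
      (NatTrans.mapHomologicalComplex σ.hom (ComplexShape.up ℕ)).app P'.cocomplex
  let b : (L.mapHomologicalComplex _).obj C ⟶ (H.mapHomologicalComplex _).obj P'.cocomplex :=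
    { f := fun n => (adj.homEquiv _ _).symm (c.f n)
      comm' := fun i j _ => by
        erw [← adj.homEquiv_naturality_left_symm, ← adj.homEquiv_naturality_right_symm]
        exact congrArg _ (c.comm i j) }
  have : ∀ n, IsIso (b.f n) := hdeg
  have : IsIso b := HomologicalComplex.Hom.isIso_of_components b
  have hcb : c = unitCx adj C ≫ (F.mapHomologicalComplex _).map b := by
    ext n
    exact ((adj.homEquiv _ _).apply_symm_apply (c.f n)).symm.trans (adj.homEquiv_unit _ _ _)
  have := isIso_homologyComparison_of_exact (L := L) C q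
  have hH : IsIso (HomologicalComplex.homologyMap ((H.mapHomologicalComplex _).map e.hom) q) :=
    ((H.mapHomotopyEquiv e).toHomologyIso q).isIso_hom
  let w : L.obj ((G.rightDerived q).obj M) ⟶ (H.rightDerived q).obj N :=
    L.map ((injectiveResolution M).isoRightDerivedObj G q).hom ≫ inv (RDer.homologyComparison L C q) ≫
      HomologicalComplex.homologyMap b q ≫
      HomologicalComplex.homologyMap ((H.mapHomologicalComplex _).map e.hom) q ≫
      ((injectiveResolution N).isoRightDerivedObj H q).inv
  have hw : IsIso w := by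
    refine IsIso.comp_isIso' inferInstance (IsIso.comp_isIso' inferInstance (IsIso.comp_isIso' ?_
      (IsIso.comp_isIso' hH inferInstance)))
    exact ((HomologicalComplex.homologyFunctor _ _ q).mapIso (asIso b)).isIso_hom
  have key : adjMap σ u q = adj.homEquiv _ _ w := by
    rw [adjMap_eq σ u q (a ≫ (P.mapHomologicalComplex _).map e.hom) (by
      rw [HomologicalComplex.comp_f, reassoc_of% ha]
      exact congrArg (u ≫ ·) ((P.map_comp _ _).symm.trans (congrArg P.map he)))]
    have h1 : (G.mapHomologicalComplex _).map (a ≫ (P.mapHomologicalComplex _).map e.hom) ≫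
        (NatTrans.mapHomologicalComplex σ.hom (ComplexShape.up ℕ)).app (injectiveResolution N).cocomplex =
        unitCx adj C ≫ (F.mapHomologicalComplex _).map (b ≫ (H.mapHomologicalComplex _).map e.hom) := by
      rw [Functor.map_comp, Functor.map_comp]
      refine Eq.trans ?_ (Category.assoc _ _ _)
      rw [← hcb]
      refine (Category.assoc _ _ _).trans ((congrArg (_ ≫ ·)
        ((NatTrans.mapHomologicalComplex σ.hom (ComplexShape.up ℕ)).naturality e.hom)).trans ?_)
      exact (Category.assoc _ _ _).symm
    rw [h1, adj.homEquiv_unit, HomologicalComplex.homologyMap_comp]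
    have h2 := homologyMap_unitCx adj C q
    have h3 : adj.unit.app _ ≫ F.map (L.map ((injectiveResolution M).isoRightDerivedObj G q).hom) =
        ((injectiveResolution M).isoRightDerivedObj G q).hom ≫ adj.unit.app (C.homology q) :=
      (adj.unit.naturality _).symm
    simp only [w, Functor.map_comp]
    refine Eq.trans ?_ ((congrArg (· ≫ _) h3.symm).trans (Category.assoc _ _ _))
    simp only [Category.assoc]
    refine congrArg (_ ≫ ·) ?_
    rw [← h2]
    simp only [Category.assoc]
    refine congrArg (_ ≫ ·) ?_
    rw [← F.map_comp_assoc (RDer.homologyComparison L C q), IsIso.hom_inv_id, F.map_id, Category.id_comp,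
      ← F.map_comp_assoc (HomologicalComplex.homologyMap b q), ← HomologicalComplex.homologyMap_comp]
    rw [← Functor.map_comp (F.mapHomologicalComplex (ComplexShape.up ℕ))]
    exact (Category.assoc _ _ _).symm.trans ((congrArg
      (· ≫ F.map ((injectiveResolution N).isoRightDerivedObj H q).inv)
      (homologyMap_homologyComparison F (b ≫ (H.mapHomologicalComplex _).map e.hom) q)).trans
        (Category.assoc _ _ _))
  rw [key]
  refine (isIso_transpose_iff adj _).1 ?_
  rw [Equiv.symm_apply_apply]
  exact hw

end Main

end Groth.Agent.EtBCLib
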