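import Groth.Agent.EtBCLib.EdgeExact
import Groth.Agent.EtBCLib.VComp
import Groth.Agent.EtaleSite.Flasque

/-!
# Base change along an étale morphism in every degree
-/

universe u

open CategoryTheory CategoryTheory.Limits AlgebraicGeometry Opposite

set_option backward.isDefEq.respectTransparency false
set_option backward.isDefEq.respectTransparency.types false
set_option autoImplicit false

namespace Groth.Agent.EtBCLib

open Groth.Agent.EtaleSite

theorem preservesFiniteLimits_pull_etale {A B : Scheme.{u}} (j : A ⟶ B) [Etale j] :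
    PreservesFiniteLimits (EtCoh.pull j) := by
  have : PreservesLimitsOfSize.{0, 0} (EtShriek.restrAlong j) :=
    (EtShriek.extZeroAdj j).rightAdjoint_preservesLimits
  have : PreservesFiniteLimits (EtShriek.restrAlong j) := PreservesLimitsOfSize.preservesFiniteLimits _
  exact preservesFiniteLimits_of_natIso (pullIsoRestrAlong j).symm

variable {S T V T' : Scheme.{u}} (g : T ⟶ S) (v : V ⟶ S) [Etale v] (gi : T' ⟶ V) (t : T' ⟶ T) [Etale t]
  (h : IsPullback t gi g v)

/-- The morphism of étale `T`-schemes underlying the comparison. -/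
noncomputable def sectMap (W : V.Etale) :
    (EtShriek.compEtale t).obj ((EtCoh.bc gi).obj W) ⟶ (EtCoh.bc g).obj ((EtShriek.compEtale v).obj W) :=
  (EtShriek.compEtale t).map
      ((EtCoh.bc gi).map ((compEtaleBcAdj v).unit.app W) ≫
        (MorphismProperty.Over.pullbackComp (P := EtCoh.etaleMP) (Q := ⊤) gi v).inv.app
          ((EtShriek.compEtale v).obj W) ≫
        (MorphismProperty.Over.pullbackCongr (P := EtCoh.etaleMP) (Q := ⊤) h.w).inv.app
          ((EtShriek.compEtale v).obj W) ≫
        HpullFunctor.bcComp t g ((EtShriek.compEtale v).obj W)) ≫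
    (compEtaleBcAdj t).counit.app ((EtCoh.bc g).obj ((EtShriek.compEtale v).obj W))

theorem pullbackCongr_inv_fst {A B : Scheme.{u}} {a b : A ⟶ B} (e : a = b) (Z : B.Etale) :
    ((MorphismProperty.Over.pullbackCongr (P := EtCoh.etaleMP) (Q := ⊤) e).inv.app Z).left ≫
      pullback.fst Z.hom a = pullback.fst Z.hom b := by
  subst e
  have := MorphismProperty.Over.pullbackCongr_hom_app_left_fst (P := EtCoh.etaleMP) (Q := ⊤) (rfl : a = a) Z
  refine (congrArg (_ ≫ ·) this.symm).trans ?_
  exact (Category.assoc _ _ _).symm.trans ((congrArg (· ≫ pullback.fst Z.hom a)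
    (congrArg (fun m : (EtCoh.bc a).obj Z ⟶ (EtCoh.bc a).obj Z => m.left)
      ((MorphismProperty.Over.pullbackCongr (P := EtCoh.etaleMP) (Q := ⊤) (rfl : a = a)).inv_hom_id_app Z))).trans
        (Category.id_comp _))

theorem isIso_sectMap (W : V.Etale) : IsIso (sectMap g v gi t h W) := by
  let Z := (EtShriek.compEtale v).obj W
  have hη : ((compEtaleBcAdj v).unit.app W).left ≫ pullback.fst Z.hom v = 𝟙 _ := pullback.lift_fst _ _ _
  have hfst : (sectMap g v gi t h W).left ≫ pullback.fst Z.hom g = pullback.fst W.hom gi := by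
    have hε : ((compEtaleBcAdj t).counit.app ((EtCoh.bc g).obj Z)).left =
        pullback.fst ((EtCoh.bc g).obj Z).hom t := rfl
    have hpc : ((MorphismProperty.Over.pullbackComp (P := EtCoh.etaleMP) (Q := ⊤) gi v).inv.app Z).left ≫
        pullback.fst Z.hom (gi ≫ v) = pullback.fst (pullback.snd Z.hom v) gi ≫ pullback.fst Z.hom v := by
      refine (congrArg (_ ≫ ·) (HpullFunctor.bcComp_fst gi v Z).symm).trans ?_
      exact (Category.assoc _ _ _).symm.trans ((congrArg (· ≫ (pullback.fst (pullback.snd Z.hom v) gi ≫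
        pullback.fst Z.hom v)) (congrArg
          (fun m : (EtCoh.bc gi).obj ((EtCoh.bc v).obj Z) ⟶ (EtCoh.bc gi).obj ((EtCoh.bc v).obj Z) => m.left)
          ((MorphismProperty.Over.pullbackComp (P := EtCoh.etaleMP) (Q := ⊤) gi v).inv_hom_id_app Z))).trans
            (Category.id_comp _))
    change ((((EtCoh.bc gi).map ((compEtaleBcAdj v).unit.app W)).left ≫
      ((MorphismProperty.Over.pullbackComp (P := EtCoh.etaleMP) (Q := ⊤) gi v).inv.app Z).left ≫
      ((MorphismProperty.Over.pullbackCongr (P := EtCoh.etaleMP) (Q := ⊤) h.w).inv.app Z).left ≫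
      (HpullFunctor.bcComp t g Z).left) ≫
        ((compEtaleBcAdj t).counit.app ((EtCoh.bc g).obj Z)).left) ≫ pullback.fst Z.hom g = _
    rw [hε]
    simp only [Category.assoc]
    refine (congrArg (fun x => _ ≫ _ ≫ _ ≫ x) (HpullFunctor.bcComp_fst t g Z)).trans ?_
    refine (congrArg (fun x => _ ≫ _ ≫ x) (pullbackCongr_inv_fst h.w Z)).trans ?_
    refine (congrArg (_ ≫ ·) hpc).trans ?_
    refine (Category.assoc _ _ _).symm.trans ((congrArg (· ≫ pullback.fst Z.hom v)
      (EtCoh.isPullback_bc_map gi ((compEtaleBcAdj v).unit.app W)).w).trans ?_)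
    exact (Category.assoc _ _ _).trans ((congrArg (_ ≫ ·) hη).trans (Category.comp_id _))
  have hsnd : (sectMap g v gi t h W).left ≫ pullback.snd Z.hom g = pullback.snd W.hom gi ≫ t :=
    MorphismProperty.Over.w (sectMap g v gi t h W)
  let P := (IsPullback.of_hasPullback W.hom gi).paste_vert h.flip
  have e : (sectMap g v gi t h W).left = P.isoPullback.hom :=
    pullback.hom_ext (hfst.trans P.isoPullback_hom_fst.symm) (hsnd.trans P.isoPullback_hom_snd.symm)
  have : IsIso (sectMap g v gi t h W).left := e ▸ inferInstance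
  let i : (EtCoh.bc g).obj Z ⟶ (EtShriek.compEtale t).obj ((EtCoh.bc gi).obj W) :=
    MorphismProperty.Over.homMk (inv (sectMap g v gi t h W).left)
      ((IsIso.inv_comp_eq _).2 (MorphismProperty.Over.w (sectMap g v gi t h W)).symm) trivial
  exact ⟨i, MorphismProperty.Over.Hom.ext (IsIso.hom_inv_id _), MorphismProperty.Over.Hom.ext (IsIso.inv_hom_id _)⟩

theorem univ_deg (I : EtCoh.Ab T) :
    Univ (EtCoh.push v) ((EtCoh.push g).map ((EtCoh.pullPushAdj t).unit.app I) ≫
      (squareIso g v gi t h.w).hom.app ((EtCoh.pull t).obj I)) := by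
  let ar := (EtCoh.push g).map ((restrAlongPushAdj t).unit.app I) ≫
    (squareIso g v gi t h.w).hom.app ((EtShriek.restrAlong t).obj I)
  have hr : IsIso (((restrAlongPushAdj v).homEquiv _ _).symm ar) := by
    have : ∀ W, IsIso ((((restrAlongPushAdj v).homEquiv _ _).symm ar).hom.app W) := fun W => by
      have e : (((restrAlongPushAdj v).homEquiv _ _).symm ar).hom.app W =
          I.obj.map (sectMap g v gi t h W.unop).op := by
        rw [Adjunction.homEquiv_counit]
        change ((I.obj.map ((compEtaleBcAdj t).counit.app _).op ≫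
          I.obj.map ((EtShriek.compEtale t).map (HpullFunctor.bcComp t g _)).op ≫
          I.obj.map ((EtShriek.compEtale t).map
            ((MorphismProperty.Over.pullbackCongr (P := EtCoh.etaleMP) (Q := ⊤) h.w).inv.app _)).op ≫
          I.obj.map ((EtShriek.compEtale t).map
            ((MorphismProperty.Over.pullbackComp (P := EtCoh.etaleMP) (Q := ⊤) gi v).inv.app _)).op) ≫
          I.obj.map ((EtShriek.compEtale t).map
            ((EtCoh.bc gi).map ((compEtaleBcAdj v).unit.app W.unop))).op) = _
        simp only [sectMap, Functor.map_comp, op_comp, Category.assoc]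
      rw [e]
      have := isIso_sectMap g v gi t h W.unop
      infer_instance
    have : IsIso ((sheafToPresheaf V.smallEtaleTopology AddCommGrpCat.{u + 1}).map
        (((restrAlongPushAdj v).homEquiv _ _).symm ar)) :=
      @NatIso.isIso_of_isIso_app _ _ _ _ _ _ (((restrAlongPushAdj v).homEquiv _ _).symm ar).hom this
    exact isIso_of_fully_faithful (f := ((restrAlongPushAdj v).homEquiv _ _).symm ar)
      (sheafToPresheaf V.smallEtaleTopology AddCommGrpCat.{u + 1})
  refine Univ.of_comp_map ((EtCoh.push gi).map ((pullIsoRestrAlong t).hom.app I)) ?_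
  have hu := Adjunction.unit_leftAdjointUniq_hom_app (EtCoh.pullPushAdj t) (restrAlongPushAdj t) I
  have hn := (squareIso g v gi t h.w).hom.naturality ((pullIsoRestrAlong t).hom.app I)
  have e : ((EtCoh.push g).map ((EtCoh.pullPushAdj t).unit.app I) ≫
      (squareIso g v gi t h.w).hom.app ((EtCoh.pull t).obj I)) ≫
      (EtCoh.push v).map ((EtCoh.push gi).map ((pullIsoRestrAlong t).hom.app I)) = ar := by
    refine (Category.assoc _ _ _).trans ((congrArg (_ ≫ ·) hn.symm).trans ?_)
    refine (Category.assoc _ _ _).symm.trans (congrArg (· ≫ _) ?_)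
    exact ((EtCoh.push g).map_comp _ _).symm.trans (congrArg (EtCoh.push g).map hu)
  rw [e]
  exact (isIso_transpose_iff _ _).1 hr

/-- Base change of higher direct images along an étale morphism. -/
theorem isIso_bcQ_etale [PreservesFiniteLimits (EtCoh.pull t)] (F : EtCoh.Ab T) (q : ℕ) :
    IsIso (EtBC.bcQ g v gi t h.w q F) := by
  have := preservesFiniteLimits_pull_etale v
  have : PreservesColimitsOfSize.{0, 0} (EtCoh.pull t) := (EtCoh.pullPushAdj t).leftAdjoint_preservesColimits
  have : PreservesFiniteColimits (EtCoh.pull t) := PreservesColimitsOfSize.preservesFiniteColimits _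
  have : PreservesColimitsOfSize.{0, 0} (EtCoh.pull v) := (EtCoh.pullPushAdj v).leftAdjoint_preservesColimits
  have : PreservesFiniteColimits (EtCoh.pull v) := PreservesColimitsOfSize.preservesFiniteColimits _
  let I := injectiveResolution F
  let K := ((EtCoh.pull t).mapHomologicalComplex (ComplexShape.up ℕ)).obj I.cocomplex
  let η := RDer.mapAug (EtCoh.pull t) I.ι
  let P' : InjectiveResolution ((EtCoh.pull t).obj F) :=
    { cocomplex := K
      injective := fun n => EtSupp.ExtZero.injective_pull t (I.cocomplex.X n)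
      ι := η }
  refine (isIso_transpose_iff (EtCoh.pullPushAdj v) _).2 ?_
  refine univ_adjMap_of_exact (EtCoh.pullPushAdj v) (squareIso g v gi t h.w)
    ((EtCoh.pullPushAdj t).unit.app F) P' (unitCx (EtCoh.pullPushAdj t) I.cocomplex) ?_ ?_ q
  · have hη : η.f 0 = (EtCoh.pull t).map (I.ι.f 0) := by
      simp [η, RDer.mapAug]
    exact ((EtCoh.pullPushAdj t).unit.naturality _).trans (congrArg (fun x => _ ≫ (EtCoh.push t).map x) hη.symm)
  · intro n
    exact (isIso_transpose_iff (EtCoh.pullPushAdj v) _).2 (univ_deg g v gi t h (I.cocomplex.X n))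

end Groth.Agent.EtBCLib
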