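import Groth.Agent.EtBCLib.EdgeExact
import Groth.Agent.EtBCLib.VComp
import Groth.Agent.EtaleSite.IntegralBC
import Groth.Agent.EtaleSite.PushIntegral
import Groth.Agent.EtaleSite.Conditions
import Groth.Agent.S6626

/-!
# Base change maps after an integral morphism of bases
-/

universe v₁ v₂ v₃ v₄ v₅ v₆ u₁ u₂ u₃ u₄ u₅ u₆ u

open CategoryTheory CategoryTheory.Limits AlgebraicGeometry

set_option backward.isDefEq.respectTransparency false
set_option backward.isDefEq.respectTransparency.types false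
set_option autoImplicit false

namespace Groth.Agent.EtBCLib

open Groth.Agent.EtaleSite

noncomputable section

section Abs

variable {T : Type u₁} [Category.{v₁} T] [Abelian T] [HasInjectiveResolutions T]
  {Y : Type u₂} [Category.{v₂} Y] [Abelian Y] [HasInjectiveResolutions Y]
  {X₂ : Type u₃} [Category.{v₃} X₂] [Abelian X₂] {S₂ : Type u₄} [Category.{v₄} S₂] [Abelian S₂]
  {X₁ : Type u₅} [Category.{v₅} X₁] [Abelian X₁] {S₁ : Type u₆} [Category.{v₆} S₁] [Abelian S₁]
  {P : Y ⥤ T} [P.Additive] [P.PreservesInjectiveObjects]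
  {G : T ⥤ S₂} [G.Additive] {H : Y ⥤ X₂} [H.Additive]
  {F : X₂ ⥤ S₂} [F.Additive] [PreservesFiniteLimits F]
  {G₁ : T ⥤ S₁} [G₁.Additive] {H₁ : Y ⥤ X₁} [H₁.Additive]
  {F₁ : X₁ ⥤ S₁} [F₁.Additive] [PreservesFiniteLimits F₁]
  {Qb : S₂ ⥤ S₁} [Qb.Additive] [PreservesFiniteLimits Qb]
  {Qa : X₂ ⥤ X₁} [Qa.Additive] [PreservesFiniteLimits Qa]
  (σ : P ⋙ G ≅ H ⋙ F) (τ : P ⋙ G₁ ≅ H₁ ⋙ F₁) (θG : G ⋙ Qb ≅ G₁) (θH : H ⋙ Qa ≅ H₁)
  (ρ : F ⋙ Qb ≅ Qa ⋙ F₁)

/-- The map `R^q G₁ ⟶ Π (R^q G)`. -/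
def lerayOut (M : T) (q : ℕ) : (G₁.rightDerived q).obj M ⟶ Qb.obj ((G.rightDerived q).obj M) :=
  (RDer.rightDerivedIso θG q).inv.app M ≫ RDer.edgeOut G Qb q M

theorem lerayOut_eq (M : T) (q : ℕ) : lerayOut θG M q =
    ((injectiveResolution M).isoRightDerivedObj G₁ q).hom ≫
      HomologicalComplex.homologyMap
        ((NatTrans.mapHomologicalComplex θG.inv (ComplexShape.up ℕ)).app (injectiveResolution M).cocomplex) q ≫
      RDer.homologyComparison Qb ((G.mapHomologicalComplex _).obj (injectiveResolution M).cocomplex) q ≫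
      Qb.map ((injectiveResolution M).isoRightDerivedObj G q).inv := by
  have h : (RDer.rightDerivedIso θG q).inv.app M = _ :=
    InjectiveResolution.rightDerived_app_eq θG.inv (injectiveResolution M) q
  refine (congrArg (· ≫ _) h).trans ?_
  simp only [RDer.edgeOut, Category.assoc, Iso.inv_hom_id_assoc]
  rfl

theorem isIso_lerayOut [PreservesFiniteColimits Qb] (M : T) (q : ℕ) : IsIso (lerayOut θG M q) := by
  haveI := isIso_homologyComparison_of_exact (L := Qb)
    ((G.mapHomologicalComplex _).obj (injectiveResolution M).cocomplex) q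
  exact IsIso.comp_isIso' inferInstance (IsIso.comp_isIso' inferInstance (IsIso.comp_isIso' this inferInstance))

/-- Pasting along the bases. -/
theorem adjMap_hpaste
    (coh : ∀ x : Y, θG.hom.app (P.obj x) ≫ τ.hom.app x =
      Qb.map (σ.hom.app x) ≫ ρ.hom.app (H.obj x) ≫ F₁.map (θH.hom.app x))
    {M : T} {N : Y} (u : M ⟶ P.obj N) (q : ℕ) :
    adjMap τ u q ≫ F₁.map (lerayOut θH N q) =
      lerayOut θG M q ≫ Qb.map (adjMap σ u q) ≫ ρ.hom.app ((H.rightDerived q).obj N) := by
  obtain ⟨a, ha⟩ := exists_chain u (P := P)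
  let L := (injectiveResolution N).cocomplex
  let K := (H.mapHomologicalComplex (ComplexShape.up ℕ)).obj L
  rw [adjMap_eq τ u q a ha, adjMap_eq σ u q a ha, lerayOut_eq, lerayOut_eq]
  simp only [Category.assoc, Functor.map_comp]
  refine congrArg (_ ≫ ·) ?_
  rw [← F₁.map_comp_assoc ((injectiveResolution N).isoRightDerivedObj H₁ q).inv, Iso.inv_hom_id, F₁.map_id,
    Category.id_comp, ← reassoc_of% (homologyMap_homologyComparison F₁
      ((NatTrans.mapHomologicalComplex θH.inv (ComplexShape.up ℕ)).app L) q)]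
  rw [← Qb.map_comp_assoc ((injectiveResolution M).isoRightDerivedObj G q).inv, Iso.inv_hom_id, Qb.map_id,
    Category.id_comp, ← reassoc_of% (homologyMap_homologyComparison Qb
      ((G.mapHomologicalComplex _).map a ≫
        (NatTrans.mapHomologicalComplex σ.hom (ComplexShape.up ℕ)).app L) q)]
  have hn := ρ.hom.naturality ((injectiveResolution N).isoRightDerivedObj H q).inv
  erw [hn]
  have e1 := homologyComparison_comp F₁ Qa ρ.inv K q
  have e2 := homologyComparison_comp Qb F (𝟙 (F ⋙ Qb)) K q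
  have e3 : RDer.homologyComparison F₁ ((Qa.mapHomologicalComplex _).obj K) q ≫
      F₁.map (RDer.homologyComparison Qa K q) =
      HomologicalComplex.homologyMap ((NatTrans.mapHomologicalComplex ρ.inv (ComplexShape.up ℕ)).app K) q ≫
        RDer.homologyComparison Qb ((F.mapHomologicalComplex _).obj K) q ≫
          Qb.map (RDer.homologyComparison F K q) ≫ ρ.hom.app _ := by
    rw [NatTrans.mapHomologicalComplex_id, NatTrans.id_app, NatTrans.id_app, HomologicalComplex.homologyMap_id,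
      Category.id_comp] at e2
    erw [Category.comp_id] at e2
    rw [reassoc_of% e2, ← reassoc_of% e1, Iso.inv_hom_id_app]
    exact (congrArg (_ ≫ ·) (Category.comp_id _)).symm
  erw [reassoc_of% e3]
  rw [← HomologicalComplex.homologyMap_comp_assoc, ← HomologicalComplex.homologyMap_comp_assoc,
    ← HomologicalComplex.homologyMap_comp_assoc]
  refine congrArg (fun x => HomologicalComplex.homologyMap x q ≫ _) ?_
  apply HomologicalComplex.Hom.ext
  funext n
  simp only [HomologicalComplex.comp_f, Functor.map_comp, Category.assoc]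
  have hτ : τ.hom.app (L.X n) = θG.inv.app (P.obj (L.X n)) ≫ Qb.map (σ.hom.app (L.X n)) ≫
      ρ.hom.app (H.obj (L.X n)) ≫ F₁.map (θH.hom.app (L.X n)) := by
    rw [← coh]; simp
  change G₁.map (a.f n) ≫ τ.hom.app (L.X n) ≫ F₁.map (θH.inv.app (L.X n)) ≫ ρ.inv.app (H.obj (L.X n)) =
    θG.inv.app _ ≫ Qb.map (G.map (a.f n)) ≫ Qb.map (σ.hom.app (L.X n))
  rw [hτ]
  simp only [Category.assoc]
  rw [← F₁.map_comp_assoc, Iso.hom_inv_id_app]
  erw [F₁.map_id, Category.id_comp, Iso.hom_inv_id_app]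
  erw [Category.comp_id]
  exact (Category.assoc _ _ _).symm.trans ((congrArg (· ≫ _) (θG.inv.naturality (a.f n))).trans
    (Category.assoc _ _ _))

end Abs

section Et

variable {S' X' S'' X'' T Y : Scheme.{u}} (f' : X' ⟶ S') (π : S'' ⟶ S') (f'' : X'' ⟶ S'') (π' : X'' ⟶ X')
  (wX : f'' ≫ π = π' ≫ f') (g' : T ⟶ S'') (h' : Y ⟶ X'') (e : Y ⟶ T) (w : e ≫ g' = h' ≫ f'')
  (w' : e ≫ g' ≫ π = (h' ≫ π') ≫ f')

theorem squareIso_hpaste (x : EtCoh.Ab Y) :
    (EtCoh.pushComp π g').hom.app ((EtCoh.push e).obj x) ≫ (squareIso (g' ≫ π) f' (h' ≫ π') e w').hom.app x =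
      (EtCoh.push π).map ((squareIso g' f'' h' e w).hom.app x) ≫
        (squareIso π f' π' f'' wX).hom.app ((EtCoh.push h').obj x) ≫
        (EtCoh.push f').map ((EtCoh.pushComp π' h').hom.app x) := by
  refine (cancel_mono ((EtCoh.pushComp f' (h' ≫ π')).hom.app x)).1 ?_
  simp only [squareIso, Iso.trans_hom, Iso.symm_hom, NatTrans.comp_app, Category.assoc, Functor.map_comp,
    Iso.inv_hom_id_app, Category.comp_id]
  rw [HpullFunctor.pushComp_assoc h' π' f' x]
  symm
  refine (congrArg (fun m => _ ≫ _ ≫ _ ≫ _ ≫ _ ≫ m)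
    ((EtCoh.pushComp f' π').inv_hom_id_app_assoc ((EtCoh.push h').obj x) _)).trans ?_
  refine (congrArg (fun m => _ ≫ _ ≫ _ ≫ _ ≫ m) (pushCongr_left h' wX x)).trans ?_
  refine (congrArg (fun m => _ ≫ _ ≫ _ ≫ m)
    ((reassoc_of% (HpullFunctor.pushComp_assoc h' f'' π x)) _).symm).trans ?_
  refine (congrArg (fun m => _ ≫ _ ≫ m) (((EtCoh.push π).map_comp_assoc _ _ _).symm.trans
    ((congrArg (fun m => (EtCoh.push π).map m ≫ _) ((EtCoh.pushComp f'' h').inv_hom_id_app x)).trans
      ((congrArg (· ≫ _) ((EtCoh.push π).map_id _)).trans (Category.id_comp _))))).trans ?_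
  refine (congrArg (_ ≫ ·) ((reassoc_of% (pushCongr_right w π x)) _)).trans ?_
  refine ((reassoc_of% (HpullFunctor.pushComp_assoc e g' π x)) _).trans ?_
  exact congrArg (_ ≫ ·) (congrArg (_ ≫ ·) (pushCongr_trans _ _ x))


variable [PreservesFiniteLimits (EtCoh.pull e)] (F : EtCoh.Ab T) (q : ℕ)

theorem isIso_bcQ_after_integral [IsIntegralHom π] [IsIntegralHom π'] (hX : IsPullback f'' π' π f')
    (h1 : IsIso (EtBC.bcQ (g' ≫ π) f' (h' ≫ π') e w' q F)) : IsIso (EtBC.bcQ g' f'' h' e w q F) := by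
  let u := (EtCoh.pullPushAdj e).unit.app F
  let B := (EtCoh.Rpush h' q).obj ((EtCoh.pull e).obj F)
  let t := EtBC.bcQ g' f'' h' e w q F
  let ρ := squareIso π f' π' f'' hX.w
  haveI hL : IsIso (lerayOut (EtCoh.pushComp π' h') ((EtCoh.pull e).obj F) q) := isIso_lerayOut _ _ _
  haveI hL' : IsIso (lerayOut (EtCoh.pushComp π g') F q) := isIso_lerayOut _ _ _
  have a1 : Univ (EtCoh.push f') (adjMap (squareIso (g' ≫ π) f' (h' ≫ π') e w') u q) :=
    (isIso_transpose_iff (EtCoh.pullPushAdj f') _).1 h1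
  have key := adjMap_hpaste (squareIso g' f'' h' e w) (squareIso (g' ≫ π) f' (h' ≫ π') e w')
    (EtCoh.pushComp π g') (EtCoh.pushComp π' h') ρ (fun x => squareIso_hpaste f' π f'' π' hX.w g' h' e w w' x) u q
  let r := (EtCoh.push π).map (adjMap (squareIso g' f'' h' e w) u q) ≫ ρ.hom.app B
  have a2 : Univ (EtCoh.push f') r := fun Z => by
    have : (fun v : (EtCoh.push π').obj B ⟶ Z => r ≫ (EtCoh.push f').map v) =
        (fun m => inv (lerayOut (EtCoh.pushComp π g') F q) ≫ m) ∘
          (fun v => adjMap (squareIso (g' ≫ π) f' (h' ≫ π') e w') u q ≫ (EtCoh.push f').map v) ∘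
          ((asIso (lerayOut (EtCoh.pushComp π' h') ((EtCoh.pull e).obj F) q)).symm.homFromEquiv) := by
      funext v
      simp only [Function.comp_apply]
      rw [IsIso.eq_inv_comp]
      refine Eq.trans ?_ ((congrArg (· ≫ (EtCoh.push f').map v) key.symm).trans
        ((Category.assoc _ _ _).trans (congrArg (_ ≫ ·) ((EtCoh.push f').map_comp _ _).symm)))
      exact (Category.assoc _ _ _).symm
    exact this ▸ ((asIso (lerayOut (EtCoh.pushComp π g') F q)).homFromEquiv.bijective.comp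
      ((a1 _).comp (Equiv.bijective _)))
  haveI h3 : IsIso (((EtCoh.pullPushAdj f').homEquiv _ _).symm r) := (isIso_transpose_iff _ _).2 a2
  let G0 := (EtCoh.Rpush g' q).obj F
  haveI hbc := isIso_baseChange0_integral π f' π' f'' hX G0
  have e1 : ((EtCoh.pullPushAdj f').homEquiv _ _).symm r =
      EtCoh.baseChange0 π f' π' f'' hX.w G0 ≫ (EtCoh.push π').map t := by
    dsimp only [EtCoh.baseChange0]
    rw [← (EtCoh.pullPushAdj f').homEquiv_naturality_right_symm]
    refine congrArg _ ?_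
    have ht : adjMap (squareIso g' f'' h' e w) u q =
        (EtCoh.pullPushAdj f'').unit.app G0 ≫ (EtCoh.push f'').map t :=
      (((EtCoh.pullPushAdj f'').homEquiv _ _).apply_symm_apply _).symm.trans
        ((EtCoh.pullPushAdj f'').homEquiv_unit _ _ _)
    refine (congrArg (fun m => (EtCoh.push π).map m ≫ ρ.hom.app B) ht).trans ?_
    refine (congrArg (· ≫ _) ((EtCoh.push π).map_comp _ _)).trans ?_
    refine (Category.assoc _ _ _).trans ((congrArg (_ ≫ ·) (ρ.hom.naturality t)).trans ?_)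
    simp [ρ, squareIso]
    rfl
  haveI : IsIso ((EtCoh.push π').map t) :=
    @IsIso.of_isIso_comp_left _ _ _ _ _ (EtCoh.baseChange0 π f' π' f'' hX.w G0) _ hbc (e1 ▸ h3)
  haveI : (EtCoh.push π').Faithful :=
    (Groth.Agent.S6626.result π' (propA_of_isIntegralHom π')).2.2.2
  haveI : Mono t := (EtCoh.push π').mono_of_mono_map inferInstance
  haveI : Epi t := (EtCoh.push π').epi_of_epi_map inferInstance
  exact isIso_of_mono_of_epi t

end Et

end

end Groth.Agent.EtBCLib
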