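import Groth.Agent.EtBCLib.EtaleBase
import Groth.Agent.EtaleSite.Stalk

/-!
# Base change maps of higher direct images are local for the étale topology
-/

universe u

open CategoryTheory CategoryTheory.Limits AlgebraicGeometry Opposite

set_option backward.isDefEq.respectTransparency false
set_option backward.isDefEq.respectTransparency.types false
set_option autoImplicit false

namespace Groth.Agent.EtBCLib

open Groth.Agent.EtaleSite

section Cancel

universe v₁ v₂ v₃ u₁ u₂ u₃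

variable {C : Type u₁} [Category.{v₁} C] {D : Type u₂} [Category.{v₂} D] {C' : Type u₃} [Category.{v₃} C']

/-- Cancelling the second map in a paste of universal maps. -/
theorem isIso_map_transpose_of_paste {F : C ⥤ D} {K : C' ⥤ C} {E : C' ⥤ D} {L : D ⥤ C} {L' : C ⥤ C'}
    (adj : L ⊣ F) (adj' : L' ⊣ K) (θ : K ⋙ F ≅ E) {A : D} {B : C} {B' : C'}
    {a : A ⟶ F.obj B} {b : B ⟶ K.obj B'}
    (hb : Univ K b) (hab : Univ E (a ≫ F.map b ≫ θ.hom.app B')) :
    IsIso (L'.map ((adj.homEquiv A B).symm a)) := by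
  let t := (adj.homEquiv A B).symm a
  have h : ∀ Z : C', Function.Bijective (fun m : L'.obj B ⟶ Z => L'.map t ≫ m) := fun Z => by
    have e : (fun v : B' ⟶ Z => (a ≫ F.map b ≫ θ.hom.app B') ≫ E.map v) =
        (fun n => n ≫ θ.hom.app Z) ∘ (fun n : B ⟶ K.obj Z => a ≫ F.map n) ∘
          (fun v : B' ⟶ Z => b ≫ K.map v) := by
      funext v
      simp only [Function.comp_apply, Category.assoc, Functor.map_comp]
      rw [← θ.hom.naturality v]
      rfl
    have h1 := hab Z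
    rw [e] at h1
    have h2 : Function.Bijective (fun n : B ⟶ K.obj Z => a ≫ F.map n) :=
      ((Function.Bijective.of_comp_iff' ((θ.app Z).homToEquiv.bijective) _).1 h1 |>
        (Function.Bijective.of_comp_iff _ (hb Z)).1)
    have e2 : (fun n : B ⟶ K.obj Z => a ≫ F.map n) =
        (adj.homEquiv A _) ∘ (adj'.homEquiv _ Z) ∘ (fun m => L'.map t ≫ m) ∘ (adj'.homEquiv B Z).symm := by
      funext n
      simp only [Function.comp_apply]
      rw [adj'.homEquiv_naturality_left, Equiv.apply_symm_apply, adj.homEquiv_naturality_right,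
        Equiv.apply_symm_apply]
    rw [e2] at h2
    exact (Function.Bijective.of_comp_iff _ (adj'.homEquiv B Z).symm.bijective).1
      ((Function.Bijective.of_comp_iff' (adj'.homEquiv _ Z).bijective _).1
        ((Function.Bijective.of_comp_iff' (adj.homEquiv A _).bijective _).1 h2))
  obtain ⟨i, hi⟩ := (h _).2 (𝟙 _)
  refine ⟨i, hi, (h _).1 ?_⟩
  simp only at hi ⊢
  rw [← Category.assoc, hi, Category.id_comp, Category.comp_id]

end Cancel

variable {X S Y T : Scheme.{u}} (f : X ⟶ S) (g : T ⟶ S) (h : Y ⟶ X) (e : Y ⟶ T) (w : e ≫ g = h ≫ f)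

section

variable {W Z : Scheme.{u}} (i : W ⟶ X) (j : Z ⟶ W) (k : Z ⟶ Y) (w' : k ≫ h = j ≫ i)
  (w'' : (k ≫ e) ≫ g = j ≫ (i ≫ f))
  [PreservesFiniteLimits (EtCoh.pull e)] [PreservesFiniteLimits (EtCoh.pull k)]
  [PreservesFiniteLimits (EtCoh.pull (k ≫ e))] (F : EtCoh.Ab T) (q : ℕ)

theorem isIso_pull_map_bcQ_of_paste
    (h2 : IsIso (EtBC.bcQ h i j k w' q ((EtCoh.pull e).obj F)))
    (h3 : IsIso (EtBC.bcQ g (i ≫ f) j (k ≫ e) w'' q F)) :
    IsIso ((EtCoh.pull i).map (EtBC.bcQ g f h e w q F)) := by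
  let u := (EtCoh.pullPushAdj e).unit.app F
  let u' := (EtCoh.pullPushAdj k).unit.app ((EtCoh.pull e).obj F)
  let u'' := (EtCoh.pullPushAdj (k ≫ e)).unit.app F
  have a2 : Univ (EtCoh.push i) (adjMap (squareIso h i j k w') u' q) :=
    (isIso_transpose_iff (EtCoh.pullPushAdj i) _).1 h2
  have a3 : Univ (EtCoh.push (i ≫ f)) (adjMap (squareIso g (i ≫ f) j (k ≫ e) w'') u'' q) :=
    (isIso_transpose_iff (EtCoh.pullPushAdj (i ≫ f)) _).1 h3
  have hu : u ≫ (EtCoh.push e).map u' ≫ (EtCoh.pushComp e k).hom.app _ =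
      u'' ≫ (EtCoh.push (k ≫ e)).map ((EtCore.pullComp k e).hom.app F) := by
    have hp := HpullFunctor.pullComp_homEquiv k e F (F := (EtCoh.pull k).obj ((EtCoh.pull e).obj F)) (𝟙 _)
    simp only [Adjunction.homEquiv_unit] at hp
    erw [Category.comp_id] at hp
    rw [(EtCoh.push k).map_id] at hp
    erw [Category.comp_id] at hp
    simp only [Category.assoc] at hp
    exact hp.symm
  refine isIso_map_transpose_of_paste (EtCoh.pullPushAdj f) (EtCoh.pullPushAdj i) (EtCoh.pushComp f i)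
    (a := adjMap (squareIso g f h e w) u q) a2 ?_
  rw [← adjMap_paste (squareIso g f h e w) (squareIso h i j k w') (squareIso g (i ≫ f) j (k ≫ e) w'')
      (EtCoh.pushComp e k) (EtCoh.pushComp f i) (fun x => squareIso_paste f g h e w i j k w' w'' x) u u' q,
    hu, adjMap_comp_map]
  intro M
  have : (fun v : (EtCoh.Rpush j q).obj ((EtCoh.pull k).obj ((EtCoh.pull e).obj F)) ⟶ M =>
      (adjMap (squareIso g (i ≫ f) j (k ≫ e) w'') u'' q ≫ (EtCoh.push (i ≫ f)).map
        ((EtCoh.Rpush j q).map ((EtCore.pullComp k e).hom.app F))) ≫ (EtCoh.push (i ≫ f)).map v) =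
      (fun v => adjMap (squareIso g (i ≫ f) j (k ≫ e) w'') u'' q ≫ (EtCoh.push (i ≫ f)).map v) ∘
        (((EtCoh.Rpush j q).mapIso ((EtCore.pullComp k e).app F)).symm.homFromEquiv) := by
    funext v
    simp only [Function.comp_apply, Category.assoc]
    refine congrArg (_ ≫ ·) ?_
    exact ((EtCoh.push (i ≫ f)).map_comp _ _).symm
  exact this ▸ (a3 M).comp (Equiv.bijective _)

end

omit w in
theorem isIso_bcQ_congr {W Z : Scheme.{u}} {b b' : W ⟶ S} (hb : b = b') (j : Z ⟶ W) {d d' : Z ⟶ T}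
    (hd : d = d') (hw : d ≫ g = j ≫ b) (hw' : d' ≫ g = j ≫ b')
    [PreservesFiniteLimits (EtCoh.pull d)] [PreservesFiniteLimits (EtCoh.pull d')] (F : EtCoh.Ab T) (q : ℕ)
    (H : IsIso (EtBC.bcQ g b j d hw q F)) : IsIso (EtBC.bcQ g b' j d' hw' q F) := by
  subst hb hd
  exact H

theorem preservesFiniteLimits_pull_comp {A B C : Scheme.{u}} (a : A ⟶ B) (b : B ⟶ C)
    [PreservesFiniteLimits (EtCoh.pull a)] [PreservesFiniteLimits (EtCoh.pull b)] :
    PreservesFiniteLimits (EtCoh.pull (a ≫ b)) :=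
  have := comp_preservesFiniteLimits (EtCoh.pull b) (EtCoh.pull a)
  preservesFiniteLimits_of_natIso (EtCore.pullComp a b).symm

omit w in
theorem isIso_of_pull_cover {G G' : EtCoh.Ab X} (a : G ⟶ G') {ι : Type u} (U : ι → X.Etale)
    (hU : EtCoh.Covers U) (H : ∀ i, IsIso ((EtCoh.pull (U i).hom).map a)) : IsIso a :=
  isIso_of_stalk a fun Ω _ _ ξ => by
    obtain ⟨i, y, hy⟩ := hU (ξ (default : Spec (CommRingCat.of Ω)))
    haveI : Etale (U i).hom := (U i).prop
    obtain ⟨ξ', hξ, -⟩ := Scheme.exists_fac_of_etale_of_isSepClosed (U i).hom ξ y hy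
    subst hξ
    haveI := H i
    exact (NatIso.isIso_map_iff (stalkPullIso (U i).hom ξ') a).1
      (inferInstanceAs (IsIso ((EtCoh.stalk ξ').map ((EtCoh.pull (U i).hom).map a))))

theorem isIso_bcQ_of_etale_local (c : IsPullback e h g f) [PreservesFiniteLimits (EtCoh.pull e)]
    (F : EtCoh.Ab T) (q : ℕ) {ι : Type u} (U : ι → X.Etale) (hU : EtCoh.Covers U) (V : ι → S.Etale)
    (a : ∀ i, (U i).left ⟶ (V i).left) (ha : ∀ i, a i ≫ (V i).hom = (U i).hom ≫ f)
    (Ti Yi : ι → Scheme.{u}) (gi : ∀ i, Ti i ⟶ (V i).left) (ti : ∀ i, Ti i ⟶ T)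
    (cT : ∀ i, IsPullback (ti i) (gi i) g (V i).hom)
    (hi : ∀ i, Yi i ⟶ (U i).left) (ei : ∀ i, Yi i ⟶ Ti i) (cY : ∀ i, IsPullback (ei i) (hi i) (gi i) (a i))
    [∀ i, PreservesFiniteLimits (EtCoh.pull (ei i))]
    (hloc : ∀ i, IsIso (EtBC.bcQ (gi i) (a i) (hi i) (ei i) (cY i).w q ((EtCoh.pull (ti i)).obj F))) :
    IsIso (EtBC.bcQ g f h e c.w q F) := by
  refine isIso_of_pull_cover _ U hU fun i => ?_
  haveI : Etale (U i).hom := (U i).prop
  haveI : Etale (V i).hom := (V i).prop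
  haveI : Etale (ti i) := MorphismProperty.of_isPullback (P := @Etale) (cT i).flip inferInstance
  haveI := preservesFiniteLimits_pull_etale (ti i)
  haveI := preservesFiniteLimits_pull_comp (ei i) (ti i)
  have hbig : IsPullback (ei i ≫ ti i) (hi i) g (a i ≫ (V i).hom) := (cY i).paste_horiz (cT i)
  have h1 : IsIso (EtBC.bcQ g (a i ≫ (V i).hom) (hi i) (ei i ≫ ti i) hbig.w q F) :=
    isIso_bcQ_paste (V i).hom g (gi i) (ti i) (cT i).w (a i) (hi i) (ei i) (cY i).w hbig.w F q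
      (isIso_bcQ_etale g (V i).hom (gi i) (ti i) (cT i) F q) (hloc i)
  let y : Yi i ⟶ Y := c.lift (ei i ≫ ti i) (hi i ≫ (U i).hom) (by
    rw [Category.assoc (hi i), ← ha i]; exact hbig.w)
  have hy1 : y ≫ e = ei i ≫ ti i := c.lift_fst _ _ _
  have hy2 : y ≫ h = hi i ≫ (U i).hom := c.lift_snd _ _ _
  have cy : IsPullback y (hi i) h (U i).hom :=
    IsPullback.of_right (by rw [hy1, ← ha i]; exact hbig) hy2 c
  haveI : Etale y := MorphismProperty.of_isPullback (P := @Etale) cy.flip inferInstance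
  haveI := preservesFiniteLimits_pull_etale y
  haveI := preservesFiniteLimits_pull_comp y e
  have w3 : (y ≫ e) ≫ g = hi i ≫ (U i).hom ≫ f := by rw [hy1, ← ha i]; exact hbig.w
  exact isIso_pull_map_bcQ_of_paste f g h e c.w (U i).hom (hi i) y cy.w w3 F q
    (isIso_bcQ_etale h (U i).hom (hi i) y cy ((EtCoh.pull e).obj F) q)
    (isIso_bcQ_congr g (ha i) (hi i) hy1.symm hbig.w w3 F q h1)

end Groth.Agent.EtBCLib
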